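import Groth.Agent.DispLib.Basic

/-!
# Base change of 3n-displays
-/

set_option autoImplicit false

noncomputable section

universe u v

open WittVector
open W4c1extbt610 (IV Display3n)

namespace Groth.Agent.DispLib

variable {p : ℕ} [hp : Fact p.Prime] {S R : Type u} [CommRing S] [CommRing R]
variable {P : Type v} [AddCommGroup P] [Module (WittVector p S) P]

theorem map_vInv (f : S →+* R) (x : WittVector p S) :
    WittVector.map f (vInv x) = vInv (WittVector.map f x) :=
  WittVector.ext fun n => by rw [map_coeff, vInv, vInv, shift_coeff, shift_coeff, map_coeff]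

theorem map_frobenius' (f : S →+* R) (x : WittVector p S) :
    WittVector.map f (frobenius x) = frobenius (WittVector.map f x) :=
  (WittVector.frobenius_isPoly p).map f x

variable (f : S →+* R) (D : Display3n p S P)

theorem exists_baseChange :
    ∃! DR : Display3n p R (Dieu.BC (WittVector.map f : WittVector p S →+* WittVector p R) P),
      Dieu.IsDispBaseChange f D DR := by
  classical
  haveI := D.finite
  haveI := D.projective
  let g : WittVector p S →+* WittVector p R := WittVector.map f
  let σ : WittVector p R →+* WittVector p R := WittVector.frobenius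
  have hgσ : ∀ x, g (frobenius x) = σ (g x) := map_frobenius' f
  obtain ⟨r, c, e, hce⟩ := exists_dualBasis (WittVector p S) P
  obtain ⟨πT, hπQ, hπI, hidem⟩ := exists_tProj_idem D
  let C : Fin r → (Dieu.BC g P →ₗ[WittVector p R] WittVector p R) := fun i =>
    Dieu.BC.lift g ((Dieu.semilinearOfRingHom g).comp (c i))
  have hC : ∀ i w x, C i (Dieu.BC.tmul g w x) = w * g (c i x) := fun i w x => by simp [C]
  have hCe : ∀ z : Dieu.BC g P, z = ∑ i, C i z • Dieu.BC.tmul g 1 (e i) := by
    intro z
    induction z using Dieu.BC.induction_on with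
    | zero => simp
    | add a b ha hb => simp only [map_add, add_smul, Finset.sum_add_distrib, ← ha, ← hb]
    | tmul w x =>
      simp only [hC, mul_smul, ← Finset.smul_sum]
      rw [Dieu.BC.tmul_eq_smul_tmul_one]
      congr 1
      change Dieu.BC.ι g P x = ∑ i, g (c i x) • Dieu.BC.ι g P (e i)
      conv_lhs => rw [hce x, map_sum]
      simp only [map_smulₛₗ]
  let pT : Dieu.BC g P →ₗ[WittVector p R] Dieu.BC g P := Dieu.BC.map g πT
  have hpT : ∀ z, pT (pT z) = pT z := fun z => by
    induction z using Dieu.BC.induction_on with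
    | zero => simp
    | add a b ha hb => simp only [map_add, ha, hb]
    | tmul w x => simp [pT, hidem]
  -- the submodule `Q_R`
  let QR : Submodule (WittVector p R) (Dieu.BC g P) := LinearMap.ker (Dieu.bcQuotMap f D.Q)
  have hyQ : ∀ (w : WittVector p R) (y : P), y ∈ D.Q → Dieu.BC.tmul g w y ∈ QR := by
    intro w y hy
    simp only [QR, g, LinearMap.mem_ker, Dieu.bcQuotMap_tmul, Submodule.mkQ_apply,
      (Submodule.Quotient.mk_eq_zero _).2 hy, Dieu.BC.tmul_zero]
  have hIQ : ∀ (a : WittVector p R) (z : Dieu.BC g P), a.coeff 0 = 0 → a • z ∈ QR := by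
    intro a z ha
    show Dieu.bcQuotMap f D.Q (a • z) = 0
    rw [map_smulₛₗ, show (constantCoeff : WittVector p R →+* R) a = 0 from ha, zero_smul]
  have hQI : ∀ z ∈ QR, ∀ i, (C i (pT z)).coeff 0 = 0 := by
    intro z hz i
    let g' := (constantCoeff : WittVector p R →+* R).comp g
    let φ0 : P →ₛₗ[g'] R := (Dieu.semilinearOfRingHom g').comp ((c i).comp πT)
    let φ : (P ⧸ D.Q) →ₛₗ[g'] R := D.Q.liftQ φ0 fun u hu => LinearMap.mem_ker.2 (by
      show f ((c i (πT u)).coeff 0) = 0
      rw [mem_IV.1 (coord_mem _ (hπI u hu)), map_zero])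
    have key : ∀ z, Dieu.BC.lift g' φ (Dieu.bcQuotMap f D.Q z) = (C i (pT z)).coeff 0 := by
      intro z
      induction z using Dieu.BC.induction_on with
      | zero => simp [zero_coeff]
      | add a b ha hb => simp only [map_add, ha, hb]; exact (map_add constantCoeff (C i (pT a)) (C i (pT b))).symm
      | tmul w x =>
        rw [Dieu.bcQuotMap_tmul, Dieu.BC.lift_tmul, show pT (Dieu.BC.tmul g w x) = Dieu.BC.tmul g w (πT x) from
          Dieu.BC.map_tmul g πT w x, hC]
        exact (map_mul constantCoeff w (g (c i (πT x)))).symm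
    rw [← key, show Dieu.bcQuotMap f D.Q z = 0 from hz, map_zero]
  -- `V⁻¹` on `Q_R`
  let a : Fin r → Dieu.BC g P := fun i => Dieu.BC.tmul g 1 (D.Vinv ⟨e i - πT (e i), hπQ (e i)⟩)
  let b : Fin r → Dieu.BC g P := fun i => Dieu.BC.tmul g 1 (D.F (e i))
  let VR : QR →ₛₗ[σ] Dieu.BC g P :=
    { toFun := fun z => (∑ i, σ (C i z) • a i) + ∑ i, vInv (C i (pT z)) • b i
      map_add' := fun z w => by
        simp only [Submodule.coe_add, map_add, vInv_add (hQI z z.2 _) (hQI w w.2 _), add_smul,
          Finset.sum_add_distrib]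
        abel
      map_smul' := fun t z => by
        simp only [Submodule.coe_smul, map_smul, smul_eq_mul, map_mul, vInv_mul t (hQI z z.2 _), mul_smul,
          ← Finset.smul_sum, smul_add]
        rfl }
  have hsum : ∀ (d : Fin r → WittVector p S) (v : Fin r → P) (w : WittVector p R),
      ∑ i, (w * g (d i)) • Dieu.BC.tmul g 1 (v i) = Dieu.BC.tmul g w (∑ i, d i • v i) := by
    intro d v w
    rw [Dieu.BC.tmul_eq_smul_tmul_one g w]
    change _ = w • Dieu.BC.ι g P _
    rw [map_sum, Finset.smul_sum]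
    exact Finset.sum_congr rfl fun i _ => by rw [map_smulₛₗ, mul_smul]; rfl
  have hA : ∀ (w : WittVector p R) (x : P), ∑ i, σ (C i (Dieu.BC.tmul g w x)) • a i =
      Dieu.BC.tmul g (σ w) (D.Vinv ⟨x - πT x, hπQ x⟩) := by
    intro w x
    simp only [hC, map_mul, ← hgσ, a]
    rw [hsum]
    congr 1
    have : (⟨x - πT x, hπQ x⟩ : D.Q) = ∑ i, c i x • ⟨e i - πT (e i), hπQ (e i)⟩ := Subtype.ext (by
      simp only [Submodule.coe_sum, Submodule.coe_smul, smul_sub, Finset.sum_sub_distrib, ← map_smul, ← map_sum,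
        ← hce x])
    rw [this, map_sum]
    simp only [map_smulₛₗ]
  have hB : ∀ (w : WittVector p R) (y : P), y ∈ D.Q → ∀ (h : ∀ i, (c i (πT y)).coeff 0 = 0) (hy : πT y ∈ D.Q),
      ∑ i, vInv (C i (pT (Dieu.BC.tmul g w y))) • b i = Dieu.BC.tmul g (σ w) (D.Vinv ⟨πT y, hy⟩) := by
    intro w y _ h hy
    have e1 : ∀ i, vInv (C i (pT (Dieu.BC.tmul g w y))) = σ w * g (vInv (c i (πT y))) := fun i => by
      rw [show pT (Dieu.BC.tmul g w y) = Dieu.BC.tmul g w (πT y) from Dieu.BC.map_tmul g πT w y, hC,
        vInv_mul w (show (g (c i (πT y))).coeff 0 = 0 by rw [map_coeff, h i, map_zero]), map_vInv]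
    simp only [e1, b]
    rw [hsum]
    congr 1
    have : (⟨πT y, hy⟩ : D.Q) = ∑ i, ⟨c i (πT y) • e i, smul_mem_Q D (h i) _⟩ :=
      Subtype.ext (by simp [← hce (πT y)])
    rw [this, map_sum]
    exact Finset.sum_congr rfl fun i _ => (Vinv_smul D (h i) _ _).symm
  have hV1 : ∀ (w : WittVector p R) (y : D.Q) (h : Dieu.BC.tmul g w (y : P) ∈ QR),
      VR ⟨_, h⟩ = Dieu.BC.tmul g (σ w) (D.Vinv y) := by
    intro w y h
    have h0 : ∀ i, (c i (πT y)).coeff 0 = 0 := fun i => mem_IV.1 (coord_mem (c i) (hπI y y.2))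
    have hy' : πT y ∈ D.Q := D.IV_smul_le (hπI y y.2)
    show (∑ i, σ (C i (Dieu.BC.tmul g w y)) • a i) + ∑ i, vInv (C i (pT (Dieu.BC.tmul g w y))) • b i = _
    rw [hA, hB w y y.2 h0 hy', ← Dieu.BC.tmul_add, ← map_add]
    congr 2
    exact Subtype.ext (sub_add_cancel _ _)
  have hV2 : ∀ (w : WittVector p R) (x : P) (h : Dieu.BC.tmul g (verschiebung w) x ∈ QR),
      VR ⟨_, h⟩ = Dieu.BC.tmul g w (D.F x) := by
    intro w x h
    show (∑ i, σ (C i (Dieu.BC.tmul g (verschiebung w) x)) • a i) +
      ∑ i, vInv (C i (pT (Dieu.BC.tmul g (verschiebung w) x))) • b i = _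
    rw [hA]
    have e1 : ∀ i, vInv (C i (pT (Dieu.BC.tmul g (verschiebung w) x))) = w * g (frobenius (c i (πT x))) := fun i => by
      rw [show pT (Dieu.BC.tmul g (verschiebung w) x) = Dieu.BC.tmul g (verschiebung w) (πT x) from
        Dieu.BC.map_tmul g πT _ x, hC, mul_comm (verschiebung w), vInv_mul _ (verschiebung_coeff_zero w),
        vInv_verschiebung, hgσ, mul_comm]
    simp only [e1, b]
    rw [hsum, show σ (verschiebung w) = w * g (p : WittVector p S) by rw [map_natCast]; exact frobenius_verschiebung w,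
      Dieu.BC.tmul_mul_apply, ← F_eq_smul_Vinv, ← Dieu.BC.tmul_add]
    congr 1
    have hs := (congrArg D.F (hce (πT x))).trans (map_sum D.F _ _)
    simp only [map_smulₛₗ] at hs
    rw [← hs, ← map_add, sub_add_cancel]
  -- `F_R`
  let ψ : P →ₛₗ[σ.comp g] Dieu.BC g P :=
    { toFun := fun x => Dieu.BC.tmul g 1 (D.F x)
      map_add' := fun x y => by rw [map_add, Dieu.BC.tmul_add]
      map_smul' := fun t x => by
        rw [map_smulₛₗ, ← Dieu.BC.tmul_apply_eq, hgσ, Dieu.BC.tmul_eq_smul_tmul_one]; rfl }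
  let FR : Dieu.BC g P →ₛₗ[σ] Dieu.BC g P := (Dieu.BC.lift (σ.comp g) ψ).comp (Dieu.BC.push g σ)
  have hF : ∀ w x, FR (Dieu.BC.tmul g w x) = Dieu.BC.tmul g (σ w) (D.F x) := by
    intro w x
    simp [FR, ψ]
  have hle : IV p R • (⊤ : Submodule (WittVector p R) (Dieu.BC g P)) ≤ QR :=
    Submodule.smul_le.2 fun t ht z _ => hIQ t z (mem_IV.1 ht)
  let emb : Dieu.BC g P →ₗ[WittVector p R] (Fin r → WittVector p R) := LinearMap.pi C
  let cmb : (Fin r → WittVector p R) →ₗ[WittVector p R] Dieu.BC g P :=
    Fintype.linearCombination (WittVector p R) fun i => Dieu.BC.tmul g 1 (e i)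
  have hce' : cmb.comp emb = LinearMap.id := LinearMap.ext fun z => by
    simp only [LinearMap.comp_apply, LinearMap.id_apply, cmb, emb, Fintype.linearCombination_apply, LinearMap.pi_apply]
    exact (hCe z).symm
  have hspan : Submodule.span (WittVector p R) (Set.range VR) = ⊤ := by
    refine eq_top_iff.2 fun z hz => ?_
    clear hz
    induction z using Dieu.BC.induction_on with
    | zero => exact Submodule.zero_mem _
    | add a b ha hb => exact Submodule.add_mem _ ha hb
    | tmul w x =>
      rw [Dieu.BC.tmul_eq_smul_tmul_one]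
      refine Submodule.smul_mem _ _ ?_
      have hx : x ∈ Submodule.span (WittVector p S) (Set.range D.Vinv) := D.span_range_Vinv ▸ Submodule.mem_top
      induction hx using Submodule.span_induction with
      | mem x hx =>
        obtain ⟨y, rfl⟩ := hx
        exact Submodule.subset_span ⟨⟨_, hyQ 1 y y.2⟩, by rw [hV1, map_one]⟩
      | zero => rw [Dieu.BC.tmul_zero]; exact Submodule.zero_mem _
      | add x y _ _ hx hy => rw [Dieu.BC.tmul_add]; exact Submodule.add_mem _ hx hy
      | smul t x _ hx =>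
        rw [← Dieu.BC.tmul_apply_eq, Dieu.BC.tmul_eq_smul_tmul_one]
        exact Submodule.smul_mem _ _ hx
  have hnormal : ∃ L T : Submodule (WittVector p R) (Dieu.BC g P), IsCompl L T ∧ QR = L ⊔ IV p R • T := by
    refine ⟨LinearMap.ker pT, LinearMap.range pT, ?_, le_antisymm (fun z hz => ?_) ?_⟩
    · exact (LinearMap.IsIdempotentElem.isCompl (show IsIdempotentElem pT from LinearMap.ext hpT)).symm
    · rw [show z = (z - pT z) + pT z from (sub_add_cancel _ _).symm]
      refine Submodule.add_mem_sup (by simp [hpT]) ?_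
      rw [← hpT z, hCe (pT z), map_sum]
      refine Submodule.sum_mem _ fun i _ => ?_
      rw [map_smul]
      exact Submodule.smul_mem_smul (mem_IV.2 (hQI z hz i)) ⟨_, rfl⟩
    · refine sup_le (fun z hz => ?_) ((Submodule.smul_mono le_rfl le_top).trans hle)
      have : ∀ z, z - pT z ∈ QR := by
        intro z
        induction z using Dieu.BC.induction_on with
        | zero => simp
        | add a b ha hb => rw [map_add, add_sub_add_comm]; exact QR.add_mem ha hb
        | tmul w x =>
          rw [show pT (Dieu.BC.tmul g w x) = Dieu.BC.tmul g w (πT x) from Dieu.BC.map_tmul g πT w x]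
          have h1 : Dieu.BC.tmul g w x - Dieu.BC.tmul g w (πT x) = Dieu.BC.tmul g w (x - πT x) := by
            rw [sub_eq_iff_eq_add, ← Dieu.BC.tmul_add, sub_add_cancel]
          rw [h1]; exact hyQ _ _ (hπQ x)
      simpa [LinearMap.mem_ker.1 hz] using this z
  let DR : Display3n p R (Dieu.BC g P) :=
    { Q := QR
      F := FR
      Vinv := VR
      finite := Module.Finite.of_surjective cmb fun z => ⟨emb z, LinearMap.congr_fun hce' z⟩
      projective := Module.Projective.of_split emb cmb hce'
      IV_smul_le := hle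
      exists_normal := hnormal
      span_range_Vinv := hspan
      Vinv_verschiebung_smul := fun w z => by
        suffices h : ∀ h : verschiebung w • z ∈ QR, VR ⟨_, h⟩ = w • FR z from h _
        induction z using Dieu.BC.induction_on with
        | zero =>
          intro h
          rw [show (⟨_, h⟩ : QR) = 0 from Subtype.ext (smul_zero _), map_zero, map_zero, smul_zero]
        | add z₁ z₂ h₁ h₂ =>
          intro h
          have m₁ : verschiebung w • z₁ ∈ QR := hIQ _ _ (verschiebung_coeff_zero w)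
          have m₂ : verschiebung w • z₂ ∈ QR := hIQ _ _ (verschiebung_coeff_zero w)
          rw [show (⟨_, h⟩ : QR) = ⟨_, m₁⟩ + ⟨_, m₂⟩ from Subtype.ext (smul_add _ _ _), map_add, h₁, h₂, map_add, smul_add]
        | tmul u x =>
          intro h
          have e0 : verschiebung w • Dieu.BC.tmul g u x = Dieu.BC.tmul g (verschiebung (w * σ u)) x := by
            rw [Dieu.BC.smul_tmul, verschiebung_mul_frobenius]
          have h2 := hV2 (w * σ u) x (e0 ▸ h)
          conv_rhs => rw [hF, Dieu.BC.smul_tmul]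
          exact (congrArg VR (Subtype.ext e0)).trans h2 }
  refine ⟨DR, ⟨rfl, hF, hV1, hV2⟩, fun DR' h' => ?_⟩
  obtain ⟨hQ', hF', hV1', hV2'⟩ := h'
  obtain ⟨Q', F', V', q1, q2, q3, q4, q5, q6⟩ := DR'
  obtain rfl : Q' = QR := hQ'
  obtain rfl : F' = FR := LinearMap.ext fun z => by
    induction z using Dieu.BC.induction_on with
    | zero => simp
    | add a b ha hb => simp only [map_add, ha, hb]
    | tmul w x => rw [hF]; exact hF' w x
  obtain rfl : V' = VR := by
    refine LinearMap.ext fun ⟨z, hz⟩ => ?_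
    have m1 : ∀ i, Dieu.BC.tmul g (C i z) (e i - πT (e i)) ∈ QR := fun i => hyQ _ _ (hπQ (e i))
    have m2 : ∀ i, Dieu.BC.tmul g (verschiebung (vInv (C i (pT z)))) (e i) ∈ QR := fun i => by
      rw [Dieu.BC.tmul_eq_smul_tmul_one]; exact hIQ _ _ (verschiebung_coeff_zero _)
    have hd : (⟨z, hz⟩ : QR) = (∑ i, ⟨_, m1 i⟩) + ∑ i, ⟨_, m2 i⟩ := by
      refine Subtype.ext ?_
      simp only [Submodule.coe_add, Submodule.coe_sum, verschiebung_vInv (hQI z hz _)]
      conv_lhs => rw [← sub_add_cancel z (pT z)]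
      congr 1
      · conv_lhs => rw [hCe z, map_sum, ← Finset.sum_sub_distrib]
        refine Finset.sum_congr rfl fun i _ => ?_
        rw [map_smul, show pT (Dieu.BC.tmul g 1 (e i)) = Dieu.BC.tmul g 1 (πT (e i)) from Dieu.BC.map_tmul g πT _ _,
          ← smul_sub, Dieu.BC.tmul_eq_smul_tmul_one g (C i z)]
        congr 1
        exact ((Dieu.BC.ι g P).map_sub (e i) (πT (e i))).symm
      · conv_lhs => rw [hCe (pT z)]
        exact Finset.sum_congr rfl fun i _ => (Dieu.BC.tmul_eq_smul_tmul_one _ _ _).symm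
    rw [hd]
    simp only [map_add, map_sum]
    congr 1
    · exact Finset.sum_congr rfl fun i _ => (hV1' _ ⟨_, hπQ (e i)⟩ _).trans (hV1 _ ⟨_, hπQ (e i)⟩ _).symm
    · exact Finset.sum_congr rfl fun i _ => (hV2' _ _ _).trans (hV2 _ _ _).symm
  rfl

end Groth.Agent.DispLib
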