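import Groth.Agent.DispLib.Witt
import Groth.Prelude.Def_Disp2

/-!
# Basic identities of 3n-displays
-/

set_option autoImplicit false

noncomputable section

universe u v

open WittVector
open W4c1extbt610 (IV Display3n)

namespace Groth.Agent.DispLib

variable {p : ℕ} [hp : Fact p.Prime] {R : Type u} [CommRing R]
variable {P : Type v} [AddCommGroup P] [Module (WittVector p R) P]

/-- Finite dual bases of a finite projective module. -/
theorem exists_dualBasis (W : Type*) [CommRing W] (M : Type*) [AddCommGroup M] [Module W M] [Module.Finite W M]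
    [Module.Projective W M] :
    ∃ (n : ℕ) (c : Fin n → (M →ₗ[W] W)) (e : Fin n → M), ∀ z, z = ∑ i, c i z • e i := by
  classical
  obtain ⟨n, f, g, -, -, hfg⟩ := Module.Finite.exists_comp_eq_id_of_projective W M
  refine ⟨n, fun i => LinearMap.proj i ∘ₗ g, fun i => f (Pi.single i 1), fun z => ?_⟩
  conv_lhs => rw [show z = f (g z) from (LinearMap.congr_fun hfg z).symm, pi_eq_sum_univ' (g z), map_sum]
  simp [map_smul]

omit hp in
theorem coord_mem {W : Type*} [CommRing W] {M : Type*} [AddCommGroup M] [Module W M] (c : M →ₗ[W] W)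
    {J : Ideal W} {z : M} (hz : z ∈ J • (⊤ : Submodule W M)) : c z ∈ J := by
  refine Submodule.smul_induction_on hz (fun r hr m _ => ?_) (fun x y hx hy => ?_)
  · rw [map_smul, smul_eq_mul]; exact Ideal.mul_mem_right _ _ hr
  · rw [map_add]; exact J.add_mem hx hy

variable (D : Display3n p R P)

theorem smul_mem_Q {c : WittVector p R} (hc : c.coeff 0 = 0) (x : P) : c • x ∈ D.Q :=
  D.IV_smul_le (Submodule.smul_mem_smul (mem_IV.2 hc) Submodule.mem_top)

theorem Vinv_smul {c : WittVector p R} (hc : c.coeff 0 = 0) (x : P) (h : c • x ∈ D.Q) :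
    D.Vinv ⟨c • x, h⟩ = vInv c • D.F x := by
  rw [← D.Vinv_verschiebung_smul (vInv c) x]
  congr 1
  exact Subtype.ext (show c • x = verschiebung (vInv c) • x by rw [verschiebung_vInv hc])

theorem F_eq_smul_Vinv (y : D.Q) : D.F (y : P) = (p : WittVector p R) • D.Vinv y := by
  have h := D.Vinv_verschiebung_smul 1 (y : P)
  rw [one_smul] at h
  rw [← h]
  have h2 := map_smulₛₗ D.Vinv (verschiebung (1 : WittVector p R)) y
  rw [frobenius_verschiebung, one_mul] at h2
  rw [← h2]
  rfl

theorem Vinv_natCast_smul (n : ℕ) (y : D.Q) :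
    D.Vinv ((n : WittVector p R) • y) = (n : WittVector p R) • D.Vinv y := by
  rw [map_smulₛₗ, map_natCast]

/-- A projection onto the `T`-part of a normal decomposition. -/
theorem exists_tProj : ∃ πT : P →ₗ[WittVector p R] P, (∀ x, x - πT x ∈ D.Q) ∧
    (∀ y ∈ D.Q, πT y ∈ IV p R • (⊤ : Submodule (WittVector p R) P)) := by
  obtain ⟨L, T, hLT, hQ⟩ := D.exists_normal
  let πT : P →ₗ[WittVector p R] P := T.subtype ∘ₗ T.projectionOnto L hLT.symm
  refine ⟨πT, fun x => ?_, fun y hy => ?_⟩
  · have h : x - πT x ∈ L := by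
      rw [← Submodule.projectionOnto_apply_eq_zero_iff hLT.symm]
      rw [map_sub, sub_eq_zero]
      exact (Submodule.projectionOnto_apply_left hLT.symm _).symm
    rw [hQ]; exact Submodule.mem_sup_left h
  · rw [hQ] at hy
    obtain ⟨l, hl, t, ht, rfl⟩ := Submodule.mem_sup.1 hy
    have hl' : πT l = 0 := by
      show ((T.projectionOnto L hLT.symm l : T) : P) = 0
      rw [(Submodule.projectionOnto_apply_eq_zero_iff hLT.symm).2 hl]; rfl
    rw [map_add, hl', zero_add]
    clear hl' hy
    refine Submodule.smul_induction_on ht (fun r hr m _ => ?_) (fun a b ha hb => ?_)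
    · rw [map_smul]; exact Submodule.smul_mem_smul hr Submodule.mem_top
    · rw [map_add]; exact Submodule.add_mem _ ha hb

/-- An idempotent projection onto the `T`-part of a normal decomposition. -/
theorem exists_tProj_idem : ∃ πT : P →ₗ[WittVector p R] P, (∀ x, x - πT x ∈ D.Q) ∧
    (∀ y ∈ D.Q, πT y ∈ IV p R • (⊤ : Submodule (WittVector p R) P)) ∧ ∀ x, πT (πT x) = πT x := by
  obtain ⟨L, T, hLT, hQ⟩ := D.exists_normal
  let πT : P →ₗ[WittVector p R] P := T.subtype ∘ₗ T.projectionOnto L hLT.symm
  have hidem : ∀ x, πT (πT x) = πT x := fun x =>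
    congrArg Subtype.val (Submodule.projectionOnto_apply_left hLT.symm _)
  refine ⟨πT, fun x => ?_, fun y hy => ?_, hidem⟩
  · have h : x - πT x ∈ L := by
      rw [← Submodule.projectionOnto_apply_eq_zero_iff hLT.symm, map_sub, sub_eq_zero]
      exact (Submodule.projectionOnto_apply_left hLT.symm _).symm
    rw [hQ]; exact Submodule.mem_sup_left h
  · rw [hQ] at hy
    obtain ⟨l, hl, t, ht, rfl⟩ := Submodule.mem_sup.1 hy
    have hl' : πT l = 0 := by
      show ((T.projectionOnto L hLT.symm l : T) : P) = 0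
      rw [(Submodule.projectionOnto_apply_eq_zero_iff hLT.symm).2 hl]; rfl
    rw [map_add, hl', zero_add]
    clear hl' hy
    refine Submodule.smul_induction_on ht (fun r hr m _ => ?_) (fun a b ha hb => ?_)
    · rw [map_smul]; exact Submodule.smul_mem_smul hr Submodule.mem_top
    · rw [map_add]; exact Submodule.add_mem _ ha hb

/-- `V⁻¹(Q)` and hence `P` is spanned by `w • V⁻¹ y`. -/
theorem ext_Vinv {B : Type*} [CommRing B] {σ' : WittVector p R →+* B} {M : Type*} [AddCommGroup M] [Module B M]
    {f g : P →ₛₗ[σ'] M} (h : ∀ y : D.Q, f (D.Vinv y) = g (D.Vinv y)) : f = g := by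
  refine LinearMap.ext fun x => ?_
  have hx : x ∈ Submodule.span (WittVector p R) (Set.range D.Vinv) := D.span_range_Vinv ▸ Submodule.mem_top
  induction hx using Submodule.span_induction with
  | mem x hx => obtain ⟨y, rfl⟩ := hx; exact h y
  | zero => simp
  | add x y _ _ hx hy => rw [map_add, map_add, hx, hy]
  | smul r x _ hx => rw [map_smulₛₗ, map_smulₛₗ, hx]

end Groth.Agent.DispLib
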