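import Groth.Agent.DispLib.Basic
import Groth.Agent.CAlgH.WittAdic

/-!
# Lifting idempotent endomorphisms and normal decompositions
-/

set_option autoImplicit false

noncomputable section

universe u v

open WittVector
open W4c1extbt610 (IV Display3n)

namespace Groth.Agent.DispLib

section Lift

variable {A : Type u} [CommRing A] {M : Type v} [AddCommGroup M] [Module A M]

theorem comp_mem {J K : Ideal A} {a b : M →ₗ[A] M} (ha : ∀ x, a x ∈ J • (⊤ : Submodule A M))
    (hb : ∀ x, b x ∈ K • (⊤ : Submodule A M)) (x : M) : a (b x) ∈ (K * J) • (⊤ : Submodule A M) := by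
  refine Submodule.smul_induction_on (hb x) (fun t ht v _ => ?_) (fun u w hu hw => ?_)
  · rw [map_smul, Submodule.mul_smul]; exact Submodule.smul_mem_smul ht (ha v)
  · rw [map_add]; exact Submodule.add_mem _ hu hw

theorem apply_mem {J : Ideal A} (f : M →ₗ[A] M) {y : M} (hy : y ∈ J • (⊤ : Submodule A M)) :
    f y ∈ J • (⊤ : Submodule A M) := by
  refine Submodule.smul_induction_on hy (fun t ht v _ => ?_) (fun u w hu hw => ?_)
  · rw [map_smul]; exact Submodule.smul_mem_smul ht Submodule.mem_top
  · rw [map_add]; exact Submodule.add_mem _ hu hw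

/-- Idempotent endomorphisms of a finite projective module lift along a complete ideal. -/
theorem exists_idem_lift [Module.Finite A M] [Module.Projective A M] (I : Ideal A) [IsAdicComplete I A]
    (e0 : M →ₗ[A] M) (h0 : ∀ x, e0 (e0 x) - e0 x ∈ I • (⊤ : Submodule A M)) :
    ∃ e : M →ₗ[A] M, (∀ x, e (e x) = e x) ∧ ∀ x, e x - e0 x ∈ I • (⊤ : Submodule A M) := by
  classical
  obtain ⟨r, c, b, hcb⟩ := exists_dualBasis A M
  let s : ℕ → Module.End A M := fun k => Nat.rec e0 (fun _ s => 3 * (s * s) - 2 * (s * s * s)) k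
  have hs1 : ∀ k, s (k + 1) = 3 * (s k * s k) - 2 * (s k * s k * s k) := fun k => rfl
  have hn : ∀ k x, (s k * s k - s k) x ∈ (I ^ (k + 1)) • (⊤ : Submodule A M) := by
    intro k
    induction k with
    | zero => intro x; rw [zero_add, pow_one]; exact h0 x
    | succ k ih =>
      intro x
      have e1 : s (k + 1) * s (k + 1) - s (k + 1) =
          (4 * (s k * s k - s k) - 3) * ((s k * s k - s k) * (s k * s k - s k)) := by
        rw [hs1]; noncomm_ring
      rw [e1, Module.End.mul_apply, Module.End.mul_apply]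
      refine apply_mem _ (Submodule.smul_mono ?_ le_rfl (comp_mem ih ih x))
      rw [← pow_add]
      exact Ideal.pow_le_pow_right (by omega)
  have hd : ∀ k x, (s (k + 1) - s k) x ∈ (I ^ (k + 1)) • (⊤ : Submodule A M) := by
    intro k x
    have e1 : s (k + 1) - s k = (1 - 2 * s k) * (s k * s k - s k) := by rw [hs1]; noncomm_ring
    rw [e1, Module.End.mul_apply]
    exact apply_mem _ (hn k x)
  have hcau : ∀ m n, m ≤ n → ∀ x, (s n - s m) x ∈ (I ^ (m + 1)) • (⊤ : Submodule A M) := by
    intro m n hmn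
    induction n, hmn using Nat.le_induction with
    | base => intro x; simp
    | succ n hmn ih =>
      intro x
      rw [show s (n + 1) - s m = (s (n + 1) - s n) + (s n - s m) by abel, LinearMap.add_apply]
      exact Submodule.add_mem _ (Submodule.smul_mono (Ideal.pow_le_pow_right (by omega)) le_rfl (hd n x)) (ih x)
  have hlim : ∀ i j, ∃ L : A, ∀ k, c i (s k (b j)) - L ∈ I ^ k := by
    intro i j
    obtain ⟨L, hL⟩ := IsPrecomplete.prec (inferInstance : IsPrecomplete I A)
      (f := fun k => c i (s k (b j))) (fun {m n} hmn => by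
        rw [SModEq.sub_mem, smul_eq_mul, Ideal.mul_top, ← neg_sub, Ideal.neg_mem_iff, ← map_sub]
        exact Ideal.pow_le_pow_right (Nat.le_succ m) (coord_mem (c i) (hcau m n hmn (b j))))
    exact ⟨L, fun k => by simpa [SModEq.sub_mem] using hL k⟩
  choose L hL using hlim
  let e : M →ₗ[A] M := ∑ i, ∑ j, (c j).smulRight (L i j • b i)
  have he : ∀ k x, e x - s k x ∈ (I ^ k) • (⊤ : Submodule A M) := by
    intro k x
    have e1 : s k x = ∑ i, ∑ j, (c j x * c i (s k (b j))) • b i := by
      conv_lhs => rw [hcb (s k x)]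
      refine Finset.sum_congr rfl fun i _ => ?_
      rw [← Finset.sum_smul]
      congr 1
      conv_lhs => rw [hcb x, map_sum, map_sum]
      simp only [map_smul, smul_eq_mul]
    rw [e1]
    simp only [e, LinearMap.sum_apply, LinearMap.smulRight_apply, smul_smul, ← Finset.sum_sub_distrib, ← sub_smul,
      ← mul_sub]
    refine Submodule.sum_mem _ fun i _ => Submodule.sum_mem _ fun j _ =>
      Submodule.smul_mem_smul (Ideal.mul_mem_left _ _ ?_) Submodule.mem_top
    rw [← neg_sub]
    exact Submodule.neg_mem _ (hL i j k)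
  refine ⟨e, fun x => ?_, fun x => ?_⟩
  · rw [← sub_eq_zero, hcb (e (e x) - e x)]
    refine Finset.sum_eq_zero fun i _ => ?_
    suffices h : c i (e (e x) - e x) = 0 by rw [h, zero_smul]
    refine IsHausdorff.haus (inferInstance : IsHausdorff I A) _ fun k => ?_
    rw [SModEq.zero, smul_eq_mul, Ideal.mul_top]
    refine coord_mem (c i) ?_
    rw [show e (e x) - e x = (e (e x) - s k (e x)) + (s k (e x - s k x)) + (s k * s k - s k) x - (e x - s k x) by
      simp only [map_sub, LinearMap.sub_apply, Module.End.mul_apply]; abel]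
    exact Submodule.sub_mem _ (Submodule.add_mem _ (Submodule.add_mem _ (he k _) (apply_mem _ (he k x)))
      (Submodule.smul_mono (Ideal.pow_le_pow_right (Nat.le_succ k)) le_rfl (hn k x))) (he k x)
  · rw [show e x - e0 x = (e x - s 1 x) + (s 1 - s 0) x by simp [s]]
    have h1 := Submodule.add_mem _ (he 1 x) (Submodule.smul_mono (le_of_eq (by rw [zero_add])) le_rfl (hcau 0 1 (Nat.zero_le 1) x))
    rwa [pow_one] at h1

end Lift

variable {p : ℕ} [hp : Fact p.Prime] {R : Type u} [CommRing R]

theorem IV_eq_ker : IV p R = RingHom.ker (constantCoeff : WittVector p R →+* R) :=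
  Ideal.ext fun _ => mem_IV

/-- Normal decompositions exist over `p`-adically complete rings. -/
theorem exists_normalDecomposition [IsAdicComplete (Ideal.span {(p : R)}) R]
    {P : Type v} [AddCommGroup P] [Module (WittVector p R) P] [Module.Finite (WittVector p R) P]
    [Module.Projective (WittVector p R) P] (Q : Submodule (WittVector p R) P)
    (hQ : ∃ C : Submodule (WittVector p R) P, Q ⊔ C = ⊤ ∧ Q ⊓ C = IV p R • (⊤ : Submodule (WittVector p R) P)) :
    ∃ L T : Submodule (WittVector p R) P, IsCompl L T ∧ Q = L ⊔ IV p R • T := by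
  obtain ⟨C, hsup, hinf⟩ := hQ
  haveI : IsAdicComplete (IV p R) (WittVector p R) := by
    rw [IV_eq_ker]; exact Groth.Agent.CAlgH.WittAdic.isAdicComplete_ker
  have hIQ : IV p R • (⊤ : Submodule (WittVector p R) P) ≤ Q := hinf ▸ inf_le_left
  have hsurj : Function.Surjective (C.mkQ.comp Q.subtype) := by
    intro z
    obtain ⟨x, rfl⟩ := C.mkQ_surjective z
    obtain ⟨q, hq, c', hc', rfl⟩ := Submodule.mem_sup.1 (hsup ▸ (Submodule.mem_top : x ∈ ⊤))
    exact ⟨⟨q, hq⟩, by simp [(Submodule.Quotient.mk_eq_zero C).2 hc']⟩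
  obtain ⟨q0, hq0⟩ := Module.projective_lifting_property (C.mkQ.comp Q.subtype) C.mkQ hsurj
  have hmem : ∀ x, x - (q0 x : P) ∈ C := fun x =>
    (Submodule.Quotient.eq C).1 (LinearMap.congr_fun hq0 x).symm
  have h0 : ∀ y ∈ Q, y - (q0 y : P) ∈ IV p R • (⊤ : Submodule (WittVector p R) P) := fun y hy => by
    rw [← hinf]; exact ⟨Q.sub_mem hy (q0 y).2, hmem y⟩
  obtain ⟨e, hee, he0⟩ := exists_idem_lift (IV p R) (Q.subtype.comp q0) (fun x => by
    rw [← neg_sub, Submodule.neg_mem_iff]; exact h0 _ (q0 x).2)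
  refine ⟨LinearMap.range e, LinearMap.ker e,
    LinearMap.IsIdempotentElem.isCompl (show IsIdempotentElem e from LinearMap.ext hee), le_antisymm (fun y hy => ?_) ?_⟩
  · rw [show y = e y + (y - e y) from (add_sub_cancel _ _).symm]
    refine Submodule.add_mem_sup ⟨y, rfl⟩ ?_
    have h1 : y - e y ∈ IV p R • (⊤ : Submodule (WittVector p R) P) := by
      rw [show y - e y = (y - (q0 y : P)) - (e y - Q.subtype.comp q0 y) by simp]
      exact Submodule.sub_mem _ (h0 y hy) (he0 y)
    rw [show y - e y = (LinearMap.id - e : P →ₗ[WittVector p R] P) (y - e y) by simp [hee]]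
    refine Submodule.smul_induction_on h1 (fun t ht v _ => ?_) (fun a b ha hb => ?_)
    · rw [map_smul]; exact Submodule.smul_mem_smul ht (by simp [hee])
    · rw [map_add]; exact Submodule.add_mem _ ha hb
  · refine sup_le ?_ ((Submodule.smul_mono le_rfl le_top).trans hIQ)
    rintro _ ⟨x, rfl⟩
    rw [show e x = (q0 x : P) + (e x - Q.subtype.comp q0 x) by simp]
    exact Q.add_mem (q0 x).2 (hIQ (he0 x))

end Groth.Agent.DispLib
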