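import Groth.Agent.DispLib.Basic
import Groth.Agent.CAlgH.WittAdic
import Groth.Prelude.Def_Disp2

/-!
# Existence and uniqueness of `V^#`
-/

set_option autoImplicit false

noncomputable section

universe u v

open WittVector
open W4c1extbt610 (IV Display3n)

namespace Groth.Agent.DispLib

section Surj

variable {A : Type u} [CommRing A] (g : A →+* A) {P : Type v} [AddCommGroup P] [Module A P]

/-- A surjection `A ⊗_{g} P → P` is bijective if `g` preserves all maximal ideals. -/
theorem bijective_of_surjective_bc [Module.Finite A P] [Module.Projective A P]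
    (hg : ∀ (m : Ideal A), m.IsMaximal → ∀ a ∈ m, g a ∈ m)
    (U : Dieu.BC g P →ₗ[A] P) (hU : Function.Surjective U) : Function.Bijective U := by
  classical
  refine ⟨?_, hU⟩
  have hfin : Module.Finite A (Dieu.BC g P) := by
    obtain ⟨n, c, e, hce⟩ := exists_dualBasis A P
    let F : (Fin n → A) →ₗ[A] Dieu.BC g P := Fintype.linearCombination A fun i => Dieu.BC.tmul g 1 (e i)
    refine Module.Finite.of_surjective F fun z => ?_
    change z ∈ LinearMap.range F
    induction z using Dieu.BC.induction_on with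
    | zero => exact Submodule.zero_mem _
    | add a b ha hb => exact Submodule.add_mem _ ha hb
    | tmul w x =>
      rw [Dieu.BC.tmul_eq_smul_tmul_one]
      refine Submodule.smul_mem _ _ ?_
      rw [← Dieu.BC.ι_apply, hce x, map_sum]
      refine Submodule.sum_mem _ fun i _ => ?_
      rw [map_smulₛₗ]
      refine Submodule.smul_mem _ _ ⟨Pi.single i 1, ?_⟩
      simp [F]
  obtain ⟨s, hs⟩ := U.exists_rightInverse_of_surjective (LinearMap.range_eq_top.2 hU)
  let e := LinearMap.id - s.comp U
  have hK : ∀ z, z ∈ LinearMap.ker U ↔ e z = z := by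
    intro z
    rw [LinearMap.mem_ker]
    refine ⟨fun h => by simp [e, h], fun h => ?_⟩
    have h2 : s (U z) = 0 := by simpa [e] using h
    simpa [h2] using (LinearMap.congr_fun hs (U z)).symm
  have heK : ∀ z, e z ∈ LinearMap.ker U := fun z => by
    rw [LinearMap.mem_ker]
    have := LinearMap.congr_fun hs (U z)
    simp only [LinearMap.comp_apply, LinearMap.id_apply] at this
    simp [e, this]
  set K := LinearMap.ker U with hKdef
  have hKfg : K.FG := by
    have : K = LinearMap.range e := le_antisymm (fun z hz => ⟨z, (hK z).1 hz⟩) (by rintro _ ⟨z, rfl⟩; exact heK z)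
    rw [this, LinearMap.range_eq_map]
    exact hfin.fg_top.map e
  have hsub : ∀ m : Ideal A, m.IsMaximal → K ≤ m • (⊤ : Submodule A (Dieu.BC g P)) := by
    intro m hm z hz
    letI := Ideal.Quotient.field m
    let Vq := P ⧸ (m • (⊤ : Submodule A P))
    let π : P →ₗ[A] Vq := (m • (⊤ : Submodule A P)).mkQ
    haveI : Module.Finite (A ⧸ m) Vq := Module.Finite.of_restrictScalars_finite A _ _
    let b := Module.finBasis (A ⧸ m) Vq
    choose e' he' using fun i => Submodule.mkQ_surjective (m • (⊤ : Submodule A P)) (b i)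
    have hsmul : ∀ (a : A) (v : Vq), a • v = Ideal.Quotient.mk m a • v := fun a v => (algebraMap_smul (A ⧸ m) a v).symm
    have hgen : ∀ w : Dieu.BC g P, ∃ a : Fin (Module.finrank (A ⧸ m) Vq) → A,
        w - ∑ i, a i • Dieu.BC.tmul g 1 (e' i) ∈ m • (⊤ : Submodule A (Dieu.BC g P)) := by
      intro w
      induction w using Dieu.BC.induction_on with
      | zero => exact ⟨0, by simp⟩
      | add w₁ w₂ h₁ h₂ =>
        obtain ⟨a₁, h₁⟩ := h₁
        obtain ⟨a₂, h₂⟩ := h₂
        exact ⟨a₁ + a₂, by simpa [add_smul, Finset.sum_add_distrib, add_sub_add_comm] using Submodule.add_mem _ h₁ h₂⟩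
      | tmul c x =>
        choose a ha using fun i => Ideal.Quotient.mk_surjective (b.repr (π x) i)
        refine ⟨fun i => c * g (a i), ?_⟩
        have hx : x - ∑ i, a i • e' i ∈ m • (⊤ : Submodule A P) := by
          refine (Submodule.Quotient.eq _).1 ?_
          show π x = π (∑ i, a i • e' i)
          rw [map_sum]
          conv_lhs => rw [← b.sum_repr (π x)]
          exact Finset.sum_congr rfl fun i _ => by rw [map_smul, hsmul, ha i]; exact congrArg _ (he' i).symm
        have hι : ∀ y ∈ m • (⊤ : Submodule A P), Dieu.BC.ι g P y ∈ m • (⊤ : Submodule A (Dieu.BC g P)) := by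
          intro y hy
          refine Submodule.smul_induction_on hy (fun r hr v _ => ?_) (fun u v hu hv => ?_)
          · rw [map_smulₛₗ]; exact Submodule.smul_mem_smul (hg m hm r hr) Submodule.mem_top
          · rw [map_add]; exact Submodule.add_mem _ hu hv
        have := Submodule.smul_mem _ c (hι _ hx)
        rw [map_sub, map_sum, smul_sub, Finset.smul_sum] at this
        simpa [map_smulₛₗ, smul_smul, ← Dieu.BC.tmul_eq_smul_tmul_one] using this
    let u : Fin (Module.finrank (A ⧸ m) Vq) → Vq := fun i => π (U (Dieu.BC.tmul g 1 (e' i)))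
    have hUm : ∀ w ∈ m • (⊤ : Submodule A (Dieu.BC g P)), π (U w) = 0 := by
      intro w hw
      refine (Submodule.Quotient.mk_eq_zero _).2 ?_
      refine Submodule.smul_induction_on hw (fun r hr v _ => ?_) (fun a b ha hb => ?_)
      · rw [map_smul]; exact Submodule.smul_mem_smul hr Submodule.mem_top
      · rw [map_add]; exact Submodule.add_mem _ ha hb
    have hUgen : ∀ (w : Dieu.BC g P) (a : Fin (Module.finrank (A ⧸ m) Vq) → A),
        w - ∑ i, a i • Dieu.BC.tmul g 1 (e' i) ∈ m • (⊤ : Submodule A (Dieu.BC g P)) →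
        π (U w) = ∑ i, Ideal.Quotient.mk m (a i) • u i := by
      intro w a ha
      have := hUm _ ha
      rw [map_sub, map_sub, sub_eq_zero] at this
      rw [this, map_sum, map_sum]
      exact Finset.sum_congr rfl fun i _ => by rw [map_smul, map_smul, hsmul]
    have hspan : ⊤ ≤ Submodule.span (A ⧸ m) (Set.range u) := by
      intro v _
      obtain ⟨x, rfl⟩ := Submodule.mkQ_surjective (m • (⊤ : Submodule A P)) v
      obtain ⟨w, rfl⟩ := hU x
      obtain ⟨a, ha⟩ := hgen w
      show π (U w) ∈ _
      rw [hUgen w a ha]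
      exact Submodule.sum_mem _ fun i _ => Submodule.smul_mem _ _ (Submodule.subset_span ⟨i, rfl⟩)
    have hind := linearIndependent_of_top_le_span_of_card_eq_finrank hspan (Fintype.card_fin _)
    obtain ⟨a, ha⟩ := hgen z
    have h0 := hUgen z a ha
    rw [show U z = 0 from LinearMap.mem_ker.1 hz, map_zero] at h0
    have h1 : ∀ i, a i ∈ m := fun i => Ideal.Quotient.eq_zero_iff_mem.1 (Fintype.linearIndependent_iff.1 hind _ h0.symm i)
    have h2 : ∑ i, a i • Dieu.BC.tmul g 1 (e' i) ∈ m • (⊤ : Submodule A (Dieu.BC g P)) :=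
      Submodule.sum_mem _ fun i _ => Submodule.smul_mem_smul (h1 i) Submodule.mem_top
    simpa using Submodule.add_mem _ ha h2
  have hKm : ∀ m : Ideal A, m.IsMaximal → K ≤ m • K := by
    intro m hm z hz
    rw [← (hK z).1 hz]
    refine Submodule.smul_induction_on (hsub m hm hz) (fun r hr v _ => ?_) (fun a b ha hb => ?_)
    · rw [map_smul]; exact Submodule.smul_mem_smul hr (heK v)
    · rw [map_add]; exact Submodule.add_mem _ ha hb
  have hann : Submodule.annihilator K = ⊤ := by
    by_contra hne
    obtain ⟨m, hm, hle⟩ := Ideal.exists_le_maximal _ hne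
    obtain ⟨r, hr1, hr2⟩ := Submodule.exists_sub_one_mem_and_smul_eq_zero_of_fg_of_le_smul m K hKfg (hKm m hm)
    have : r ∈ m := hle (Submodule.mem_annihilator.2 hr2)
    exact hm.ne_top ((Ideal.eq_top_iff_one m).2 (by simpa using m.sub_mem this hr1))
  rw [← LinearMap.ker_eq_bot, ← hKdef]
  exact Submodule.annihilator_eq_top_iff.1 hann

end Surj

variable {p : ℕ} [hp : Fact p.Prime] {R : Type u} [CommRing R]

theorem isAdicComplete_of_isNilpotent (h : IsNilpotent (p : R)) : IsAdicComplete (Ideal.span {(p : R)}) R := by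
  obtain ⟨n, hn⟩ := h
  have hbot : ∀ m, n ≤ m → (Ideal.span {(p : R)} ^ m) • (⊤ : Submodule R R) = ⊥ := by
    intro m hm
    rw [Ideal.span_singleton_pow, pow_eq_zero_of_le hm hn]
    simp
  refine { haus' := fun x hx => ?_, prec' := fun f hf => ⟨f n, fun m => ?_⟩ }
  · have := hx n
    rwa [SModEq.sub_mem, hbot n le_rfl, sub_zero, Submodule.mem_bot] at this
  · rcases le_total m n with h | h
    · exact hf h
    · have := hf h
      rw [SModEq.sub_mem, hbot n le_rfl, Submodule.mem_bot, sub_eq_zero] at this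
      rw [this]

theorem frobenius_mem_maximal (h : IsNilpotent (p : R)) (m : Ideal (WittVector p R)) (hm : m.IsMaximal)
    {x : WittVector p R} (hx : x ∈ m) : WittVector.frobenius x ∈ m := by
  haveI := isAdicComplete_of_isNilpotent h
  haveI := Groth.Agent.CAlgH.WittAdic.isAdicComplete_ker (p := p) (R := R)
  have hIV : ∀ z : WittVector p R, z.coeff 0 = 0 → z ∈ m := fun z hz =>
    Ideal.mem_sInf.1 (IsAdicComplete.le_jacobson_bot (RingHom.ker (constantCoeff : WittVector p R →+* R))
      (show z ∈ RingHom.ker (constantCoeff : WittVector p R →+* R) from hz)) ⟨bot_le, hm⟩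
  have hpm : (p : WittVector p R) ∈ m := by
    obtain ⟨n, hn⟩ := h
    refine hm.isPrime.mem_of_pow_mem n (hIV _ ?_)
    show constantCoeff ((p : WittVector p R) ^ n) = 0
    rw [map_pow, map_natCast, hn]
  have h0 : constantCoeff (frobenius x) = x.coeff 0 ^ p + p * x.coeff 1 := by
    have := ghostComponent_frobenius 0 x
    simpa [ghostComponent_apply, wittPolynomial_one, wittPolynomial_zero, add_comm] using this
  have h2 : frobenius x - x ^ p - (p : WittVector p R) * teichmuller p (x.coeff 1) ∈ m := by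
    refine hIV _ ?_
    show constantCoeff (frobenius x - x ^ p - (p : WittVector p R) * teichmuller p (x.coeff 1)) = 0
    rw [map_sub, map_sub, map_mul, map_natCast, map_pow, h0]
    show _ - constantCoeff x ^ p - _ = _
    simp [constantCoeff, teichmuller_coeff_zero]
  have := m.add_mem h2 (m.add_mem (m.mul_mem_right (teichmuller p (x.coeff 1)) hpm) (Ideal.pow_mem_of_mem _ hx p hp.out.pos))
  convert this using 1; ring

variable {P : Type v} [AddCommGroup P] [Module (WittVector p R) P] (D : Display3n p R P)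

/-- `V^#` exists and is unique when `p` is nilpotent. -/
theorem existsUnique_vSharp (h : IsNilpotent (p : R)) :
    ∃! Vs : P →ₗ[WittVector p R] Dieu.BC (WittVector.frobenius : WittVector p R →+* WittVector p R) P,
      Dieu.IsVSharp D Vs := by
  classical
  haveI := D.finite
  haveI := D.projective
  obtain ⟨r, c, e, hce⟩ := exists_dualBasis (WittVector p R) P
  obtain ⟨πT, hπQ, hπI, hidem⟩ := exists_tProj_idem D
  let σ : WittVector p R →+* WittVector p R := WittVector.frobenius
  let G : P →ₛₗ[σ] P :=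
    D.Vinv.comp ((LinearMap.id - πT).codRestrict D.Q hπQ) + D.F.comp πT
  let U := Dieu.BC.lift σ G
  have hGL : ∀ x, G (x - πT x) = D.Vinv ⟨x - πT x, hπQ x⟩ := by
    intro x
    have h0 : πT (x - πT x) = 0 := by rw [map_sub, hidem, sub_self]
    have h1 : ((LinearMap.id - πT).codRestrict D.Q hπQ) (x - πT x) = ⟨x - πT x, hπQ x⟩ :=
      Subtype.ext (by
        show (x - πT x) - πT (x - πT x) = x - πT x
        rw [h0, sub_zero])
    show D.Vinv (((LinearMap.id - πT).codRestrict D.Q hπQ) (x - πT x)) + D.F (πT (x - πT x)) = _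
    rw [h0, h1, map_zero, add_zero]
  have hGT : ∀ x, G (πT x) = D.F (πT x) := by
    intro x
    have : ((LinearMap.id - πT).codRestrict D.Q hπQ) (πT x) = 0 := Subtype.ext (by simp [hidem])
    simp [G, this, hidem]
  -- decomposition of `V⁻¹`
  have hsplit : ∀ y : D.Q, ∃ d : Fin r → WittVector p R, (∀ i, (d i).coeff 0 = 0) ∧
      πT y = ∑ i, d i • πT (e i) ∧ D.Vinv y = G ((y : P) - πT y) + ∑ i, vInv (d i) • G (πT (e i)) := by
    intro y
    have hd : ∀ i, (c i (πT y)).coeff 0 = 0 := fun i => mem_IV.1 (coord_mem (c i) (hπI y y.2))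
    have hy : πT y = ∑ i, c i (πT y) • πT (e i) := by
      conv_lhs => rw [← hidem, hce (πT y), map_sum]
      simp only [map_smul]
    refine ⟨fun i => c i (πT y), hd, hy, ?_⟩
    have e0 : y = ⟨(y : P) - πT y, hπQ y⟩ + ∑ i, ⟨c i (πT y) • πT (e i), smul_mem_Q D (hd i) _⟩ :=
      Subtype.ext (by simp [← hy])
    conv_lhs => rw [e0]
    rw [map_add, map_sum, hGL]
    congr 1
    exact Finset.sum_congr rfl fun i _ => by rw [Vinv_smul D (hd i), hGT]
  have hsurj : Function.Surjective U := by
    intro x
    change x ∈ LinearMap.range U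
    have hG : ∀ z, G z ∈ LinearMap.range U := fun z => ⟨Dieu.BC.tmul σ 1 z, by simp [U]⟩
    have hx : x ∈ Submodule.span (WittVector p R) (Set.range D.Vinv) := D.span_range_Vinv ▸ Submodule.mem_top
    refine (Submodule.span_le.2 ?_) hx
    rintro _ ⟨y, rfl⟩
    obtain ⟨d, -, -, hd⟩ := hsplit y
    rw [hd]
    exact Submodule.add_mem _ (hG _) (Submodule.sum_mem _ fun i _ => Submodule.smul_mem _ _ (hG _))
  let Ue := LinearEquiv.ofBijective U
    (bijective_of_surjective_bc σ (fun m hm a ha => frobenius_mem_maximal h m hm ha) U hsurj)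
  let φ : P →ₗ[WittVector p R] P := (LinearMap.id - πT) + (p : WittVector p R) • πT
  let Vs : P →ₗ[WittVector p R] Dieu.BC σ P := (Dieu.BC.map σ φ).comp Ue.symm.toLinearMap
  have hVG : ∀ z, Vs (G z) = Dieu.BC.tmul σ 1 (φ z) := by
    intro z
    have : Ue.symm (G z) = Dieu.BC.tmul σ 1 z := by
      rw [LinearEquiv.symm_apply_eq]
      simp [Ue, U]
    simp [Vs, this]
  have hVinv : ∀ y : D.Q, Vs (D.Vinv y) = Dieu.BC.tmul σ 1 (y : P) := by
    intro y
    obtain ⟨d, hd0, hd1, hd2⟩ := hsplit y
    rw [hd2, map_add, map_sum, hVG]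
    have hT : ∀ i, Vs (vInv (d i) • G (πT (e i))) = Dieu.BC.tmul σ 1 (d i • πT (e i)) := by
      intro i
      rw [map_smul, hVG, Dieu.BC.smul_tmul, mul_one, ← Dieu.BC.tmul_apply_eq σ (d i),
        show φ (πT (e i)) = (p : WittVector p R) • πT (e i) by simp [φ, hidem], ← Dieu.BC.tmul_mul_apply]
      congr 1
      rw [show σ (p : WittVector p R) = p from map_natCast σ p, ← frobenius_verschiebung, verschiebung_vInv (hd0 i)]
    simp only [hT]
    rw [show φ ((y : P) - πT y) = (y : P) - πT y by simp [φ, hidem]]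
    change Dieu.BC.ι σ P _ + ∑ i, Dieu.BC.ι σ P _ = Dieu.BC.ι σ P _
    rw [← map_sum, ← hd1, ← map_add, sub_add_cancel]
  refine ⟨Vs, ⟨fun w x => ?_, fun w y => ?_⟩, fun V' hV' => ?_⟩
  · have hx : D.F x = (p : WittVector p R) • D.Vinv ⟨x - πT x, hπQ x⟩ + G (πT x) := by
      rw [← F_eq_smul_Vinv, hGT, ← map_add, sub_add_cancel]
    rw [map_smul, hx, map_add, map_smul, hVinv, hVG, show φ (πT x) = (p : WittVector p R) • πT x by simp [φ, hidem]]
    change w • ((p : WittVector p R) • Dieu.BC.ι σ P (x - πT x) + Dieu.BC.ι σ P _) = _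
    rw [map_smulₛₗ, map_natCast, ← smul_add, ← map_add, sub_add_cancel, Dieu.BC.ι_apply, smul_comm,
      ← Dieu.BC.tmul_eq_smul_tmul_one]
  · rw [map_smul, hVinv, Dieu.BC.smul_tmul, mul_one]
  · refine ext_Vinv D fun y => ?_
    rw [hVinv, ← one_smul (WittVector p R) (D.Vinv y), hV'.app_smul_Vinv]

end Groth.Agent.DispLib
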