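import Groth.Agent.DispLib.Perfect
import Groth.Agent.DispLib.Normal
import Groth.Agent.DispLib.VSharp

/-!
# The display of a Dieudonné module over a perfect ring
-/

set_option autoImplicit false

noncomputable section

universe u v

open WittVector
open W4c1extbt610 (IV Display3n)

namespace Groth.Agent.DispLib

variable {p : ℕ} [hp : Fact p.Prime] {k : Type u} [CommRing k] [CharP k p] [PerfectRing k p]
variable {M : Type v} [AddCommGroup M] [Module (WittVector p k) M]
variable [Module.Finite (WittVector p k) M] [Module.Projective (WittVector p k) M]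

omit [CharP k p] [PerfectRing k p] in
theorem natCast_mem_maximal (h : IsNilpotent (p : k)) (m : Ideal (WittVector p k)) (hm : m.IsMaximal) :
    (p : WittVector p k) ∈ m ∧ IV p k ≤ m := by
  haveI := isAdicComplete_of_isNilpotent h
  haveI := Groth.Agent.CAlgH.WittAdic.isAdicComplete_ker (p := p) (R := k)
  have hIV : ∀ z : WittVector p k, z.coeff 0 = 0 → z ∈ m := fun z hz =>
    Ideal.mem_sInf.1 (IsAdicComplete.le_jacobson_bot (RingHom.ker (constantCoeff : WittVector p k →+* k))
      (show z ∈ RingHom.ker (constantCoeff : WittVector p k →+* k) from hz)) ⟨bot_le, hm⟩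
  refine ⟨?_, fun z hz => hIV z (mem_IV.1 hz)⟩
  obtain ⟨n, hn⟩ := h
  refine hm.isPrime.mem_of_pow_mem n (hIV _ ?_)
  show constantCoeff ((p : WittVector p k) ^ n) = 0
  rw [map_pow, map_natCast, hn]

theorem exists_sq_idem (F : M →ₛₗ[(WittVector.frobenius : WittVector p k →+* WittVector p k)] M)
    (V : M →ₛₗ[((WittVector.frobeniusEquiv p k).symm : WittVector p k →+* WittVector p k)] M)
    (hFV : ∀ m : M, F (V m) = (p : WittVector p k) • m) (hVF : ∀ m : M, V (F m) = (p : WittVector p k) • m)
    (Q : Submodule (WittVector p k) M) (hQ : ∀ x, x ∈ Q ↔ x ∈ Set.range V) :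
    ∃ e : M →ₗ[WittVector p k] M, (∀ q ∈ Q, e q ∈ IV p k • (⊤ : Submodule (WittVector p k) M)) ∧
      ∀ x, x - e x ∈ Q := by
  classical
  let σ : WittVector p k →+* WittVector p k := WittVector.frobenius
  let τ : WittVector p k →+* WittVector p k := ((WittVector.frobeniusEquiv p k).symm : WittVector p k →+* WittVector p k)
  have hστ : ∀ x, σ (τ x) = x := frobenius_frobeniusEquiv_symm
  have hτσ : ∀ x, τ (σ x) = x := frobeniusEquiv_symm_frobenius
  have hp0 : IsNilpotent (p : k) := ⟨1, by rw [pow_one, CharP.cast_eq_zero]⟩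
  obtain ⟨N, c, e, hce⟩ := exists_dualBasis (WittVector p k) M
  let IM : Submodule (WittVector p k) M := IV p k • ⊤
  have hIQ : IM ≤ Q := by
    refine Submodule.smul_le.2 fun t ht x _ => ?_
    rw [IV_eq_span_natCast, Ideal.mem_span_singleton'] at ht
    obtain ⟨s, rfl⟩ := ht
    rw [mul_smul]
    exact Q.smul_mem _ ((hQ _).2 ⟨F x, hVF x⟩)
  have hpIM : ∀ x : M, (p : WittVector p k) • x ∈ IM := fun x => by
    refine Submodule.smul_mem_smul ?_ Submodule.mem_top
    rw [IV_eq_span_natCast]; exact Ideal.mem_span_singleton_self _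
  let J : Ideal (WittVector p k) :=
    { carrier := {r | ∃ f : M →ₗ[WittVector p k] M, (∀ q ∈ Q, f q ∈ IM) ∧ ∀ x, r • x - f x ∈ Q}
      zero_mem' := ⟨0, fun q _ => by simp, fun x => by simp⟩
      add_mem' := by
        rintro r s ⟨f, hf, hf'⟩ ⟨g, hg, hg'⟩
        exact ⟨f + g, fun q hq => IM.add_mem (hf q hq) (hg q hq), fun x => by
          simpa [add_smul, add_sub_add_comm] using Q.add_mem (hf' x) (hg' x)⟩
      smul_mem' := by
        rintro t r ⟨f, hf, hf'⟩
        exact ⟨t • f, fun q hq => IM.smul_mem t (hf q hq), fun x => by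
          simpa [mul_smul, smul_sub] using Q.smul_mem t (hf' x)⟩ }
  suffices hJ : J = ⊤ by
    obtain ⟨f, hf, hf'⟩ := (Ideal.eq_top_iff_one J).1 hJ
    exact ⟨f, hf, fun x => by simpa using hf' x⟩
  by_contra hne
  obtain ⟨m, hm, hle⟩ := Ideal.exists_le_maximal J hne
  letI := Ideal.Quotient.field m
  obtain ⟨hpm, hIm⟩ := natCast_mem_maximal hp0 m hm
  have hσm : ∀ x ∈ m, σ x ∈ m := fun x hx => frobenius_mem_maximal hp0 m hm hx
  have hτm : ∀ x ∈ m, τ x ∈ m := by
    intro x hx
    have h1 : m = Ideal.comap σ m := hm.eq_of_le (Ideal.comap_ne_top σ hm.ne_top) fun y hy => hσm y hy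
    rw [h1, Ideal.mem_comap, hστ]; exact hx
  -- the ideal `a = W(m₀)`
  let m0 : Ideal k := m.map (constantCoeff : WittVector p k →+* k)
  have hsurj : Function.Surjective (constantCoeff : WittVector p k →+* k) := fun a => ⟨teichmuller p a, teichmuller_coeff_zero p a⟩
  have hm0 : ∀ x : WittVector p k, x.coeff 0 ∈ m0 → x ∈ m := by
    intro x hx
    have h2 : x ∈ Ideal.comap constantCoeff (m.map (constantCoeff : WittVector p k →+* k)) := hx
    rw [Ideal.comap_map_of_surjective' _ hsurj, ← IV_eq_ker, sup_eq_left.2 hIm] at h2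
    exact h2
  have hm0' : m0.IsPrime := Ideal.map_isPrime_of_surjective hsurj (by rw [← IV_eq_ker]; exact hIm)
  have hτa : ∀ x ∈ WI m0, τ x ∈ WI (p := p) m0 := by
    intro x hx
    refine mem_WI.2 fun n => hm0'.mem_of_pow_mem p ?_
    rw [← coeff_frobenius_charP]
    change (σ (τ x)).coeff n ∈ m0
    rw [hστ]; exact mem_WI.1 hx n
  have hpa : ∀ x, (p : WittVector p k) * x ∈ WI m0 → x ∈ WI (p := p) m0 := by
    intro x hx
    refine mem_WI.2 fun n => hm0'.mem_of_pow_mem p ?_
    rw [← mul_charP_coeff_succ, mul_comm]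
    exact mem_WI.1 hx (n + 1)
  let mM : Submodule (WittVector p k) M := m • ⊤
  have hexact : ∀ z, F z ∈ mM → z ∈ Q ⊔ mM := by
    intro z hz
    have hsplit : mM ≤ WI (p := p) m0 • ⊤ ⊔ IM := by
      refine Submodule.smul_le.2 fun t ht x _ => ?_
      rw [show t • x = teichmuller p (t.coeff 0) • x + (t - teichmuller p (t.coeff 0)) • x by
        rw [← add_smul, add_sub_cancel]]
      exact Submodule.add_mem_sup
        (Submodule.smul_mem_smul (teichmuller_mem_WI (Ideal.mem_map_of_mem _ ht)) Submodule.mem_top)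
        (Submodule.smul_mem_smul (mem_IV.2 (coeff_zero_sub_teichmuller t)) Submodule.mem_top)
    obtain ⟨a, ha, y, hy, hay⟩ := Submodule.mem_sup.1 (hsplit hz)
    have hy' : ∃ y', y = (p : WittVector p k) • y' := by
      refine Submodule.smul_induction_on hy (fun t ht x _ => ?_) ?_
      · rw [IV_eq_span_natCast, Ideal.mem_span_singleton'] at ht
        obtain ⟨s, rfl⟩ := ht
        exact ⟨s • x, by rw [smul_smul, mul_comm]⟩
      · rintro _ _ ⟨u, rfl⟩ ⟨w, rfl⟩
        exact ⟨u + w, (smul_add _ _ _).symm⟩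
    obtain ⟨y', rfl⟩ := hy'
    have hFz : F (z - V y') = a := by rw [map_sub, hFV, ← hay, add_sub_cancel_right]
    have hz' : z - V y' ∈ WI (p := p) m0 • (⊤ : Submodule (WittVector p k) M) := by
      have h1 : V a ∈ WI (p := p) m0 • (⊤ : Submodule (WittVector p k) M) := by
        refine Submodule.smul_induction_on ha (fun t ht x _ => ?_) (fun u w hu hw => ?_)
        · rw [map_smulₛₗ]; exact Submodule.smul_mem_smul (hτa t ht) Submodule.mem_top
        · rw [map_add]; exact Submodule.add_mem _ hu hw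
      rw [← hFz, hVF] at h1
      rw [hce (z - V y')]
      refine Submodule.sum_mem _ fun i _ => Submodule.smul_mem_smul (hpa _ ?_) Submodule.mem_top
      rw [← smul_eq_mul, ← map_smul]
      exact coord_mem (c i) h1
    rw [show z = V y' + (z - V y') from (add_sub_cancel _ _).symm]
    exact Submodule.add_mem_sup ((hQ _).2 ⟨y', rfl⟩)
      (Submodule.smul_mono (fun x hx => hm0 x (mem_WI.1 hx 0)) le_rfl hz')
  -- the fibre at `m`
  let κ := WittVector p k ⧸ m
  let Mb := M ⧸ mM
  let π : M →ₗ[WittVector p k] Mb := mM.mkQ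
  haveI : Module.Finite κ Mb := Module.Finite.of_restrictScalars_finite (WittVector p k) _ _
  have hsm : ∀ (a : WittVector p k) (v : Mb), a • v = Ideal.Quotient.mk m a • v := fun a v =>
    (algebraMap_smul κ a v).symm
  let Qb : Submodule κ Mb :=
    { carrier := π '' (Q : Set M)
      zero_mem' := ⟨0, Q.zero_mem, map_zero _⟩
      add_mem' := by rintro _ _ ⟨x, hx, rfl⟩ ⟨y, hy, rfl⟩; exact ⟨x + y, Q.add_mem hx hy, map_add _ _ _⟩
      smul_mem' := by
        rintro t _ ⟨x, hx, rfl⟩
        obtain ⟨a, rfl⟩ := Ideal.Quotient.mk_surjective t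
        exact ⟨a • x, Q.smul_mem a hx, by rw [map_smul, hsm]⟩ }
  obtain ⟨Cb, hC⟩ := Submodule.exists_isCompl Qb
  let v := Module.finBasis κ Cb
  choose mi hmi using fun i => mM.mkQ_surjective (v i : Mb)
  have hπmi : ∀ (a : Fin (Module.finrank κ Cb) → WittVector p k),
      π (∑ i, a i • mi i) = ((∑ i, Ideal.Quotient.mk m (a i) • v i : Cb) : Mb) := by
    intro a
    simp only [map_sum, map_smul, Submodule.coe_sum, Submodule.coe_smul, hsm, π, hmi]
  have hind : LinearIndependent κ fun i => π (F (mi i)) := by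
    rw [Fintype.linearIndependent_iff]
    intro g hg
    choose a ha using fun i => Ideal.Quotient.mk_surjective (g i)
    have h1 : F (∑ i, τ (a i) • mi i) ∈ mM := by
      refine (Submodule.Quotient.mk_eq_zero _).1 ?_
      change π _ = 0
      rw [map_sum, map_sum, ← hg]
      refine Finset.sum_congr rfl fun i _ => ?_
      rw [map_smulₛₗ, map_smul, hsm, ← ha i]
      exact congrArg (fun t => Ideal.Quotient.mk m t • π (F (mi i))) (hστ (a i))
    obtain ⟨q, hq, r, hr, hqr⟩ := Submodule.mem_sup.1 (hexact _ h1)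
    have h2 : π (∑ i, τ (a i) • mi i) ∈ Qb := ⟨q, hq, by
      rw [← hqr, map_add, show π r = 0 from (Submodule.Quotient.mk_eq_zero _).2 hr, add_zero]⟩
    rw [hπmi] at h2
    have h3 : (∑ i, Ideal.Quotient.mk m (τ (a i)) • v i : Cb) = 0 :=
      Subtype.ext (Submodule.disjoint_def.1 hC.disjoint _ h2 (Submodule.coe_mem _))
    intro i
    rw [← ha i, Ideal.Quotient.eq_zero_iff_mem, ← hστ (a i)]
    exact hσm _ (Ideal.Quotient.eq_zero_iff_mem.1 (Fintype.linearIndependent_iff.1 v.linearIndependent _ h3 i))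
  obtain ⟨G, hG⟩ := LinearMap.exists_leftInverse_of_injective
    (Fintype.linearCombination κ fun i => π (F (mi i))) (LinearMap.ker_eq_bot.2 hind.fintypeLinearCombination_injective)
  choose φ hφ using fun i => Module.projective_lifting_property (Submodule.mkQ m)
    (((LinearMap.proj i).comp G).restrictScalars (WittVector p k) |>.comp π) (Submodule.mkQ_surjective m)
  let E : M →ₗ[WittVector p k] M :=
    { toFun := fun z => ∑ i, τ (φ i (F z)) • mi i
      map_add' := fun x y => by simp [add_smul, Finset.sum_add_distrib]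
      map_smul' := fun t x => by simp [map_smulₛₗ, map_mul, hτσ, mul_smul, Finset.smul_sum, σ] }
  have hEQ : ∀ q ∈ Q, E q ∈ IM := by
    intro q hq
    obtain ⟨y, rfl⟩ := (hQ q).1 hq
    show ∑ i, τ (φ i (F (V y))) • mi i ∈ IM
    refine IM.sum_mem fun i _ => ?_
    rw [hFV, map_smul, smul_eq_mul, map_mul, map_natCast, mul_smul]
    exact hpIM _
  have hEid : ∀ z, z - E z ∈ Q ⊔ mM := by
    intro z
    have hz : π z ∈ Qb ⊔ Cb := hC.sup_eq_top ▸ Submodule.mem_top
    obtain ⟨_, ⟨q, hq, rfl⟩, cb, hcb, hz⟩ := Submodule.mem_sup.1 hz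
    choose a ha using fun i => Ideal.Quotient.mk_surjective (v.repr ⟨cb, hcb⟩ i)
    have h1 : z - (q + ∑ i, a i • mi i) ∈ mM := by
      refine (Submodule.Quotient.eq _).1 ?_
      change π z = π _
      rw [map_add, hπmi, ← hz]
      simp only [ha, v.sum_repr]
    have h2 : ∀ j, mi j - E (mi j) ∈ mM := by
      intro j
      have h3 : ∀ i, φ i (F (mi j)) - Pi.single (M := fun _ => WittVector p k) j 1 i ∈ m := by
        intro i
        refine (Submodule.Quotient.eq m).1 ?_
        change Submodule.mkQ m (φ i (F (mi j))) = _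
        rw [← LinearMap.comp_apply, hφ]
        have h4 := LinearMap.congr_fun hG (Pi.single j 1)
        simp [Fintype.linearCombination_apply_single] at h4
        simp only [LinearMap.comp_apply, LinearMap.coe_restrictScalars, h4, LinearMap.proj_apply]
        rcases eq_or_ne i j with rfl | hij
        · simp
        · simp [hij]
      have e0 : ∑ i, τ (Pi.single (M := fun _ => WittVector p k) j 1 i) • mi i = mi j := by
        simp [Pi.single_apply, apply_ite τ, ite_smul]
      show mi j - ∑ i, τ (φ i (F (mi j))) • mi i ∈ mM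
      have e1 : mi j - ∑ i, τ (φ i (F (mi j))) • mi i =
          ∑ i, τ (Pi.single (M := fun _ => WittVector p k) j 1 i - φ i (F (mi j))) • mi i := by
        simp only [map_sub, sub_smul, Finset.sum_sub_distrib, e0]
      rw [e1]
      refine mM.sum_mem fun i _ => ?_
      refine Submodule.smul_mem_smul (hτm _ ?_) Submodule.mem_top
      rw [← neg_sub, Ideal.neg_mem_iff]
      exact h3 i
    rw [show z - E z = (z - (q + ∑ i, a i • mi i)) - E (z - (q + ∑ i, a i • mi i)) +
      ((q - E q) + ∑ i, a i • (mi i - E (mi i))) by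
        simp only [map_sub, map_add, map_sum, map_smul, smul_sub, Finset.sum_sub_distrib]; abel]
    exact Submodule.add_mem _ (Submodule.mem_sup_right (mM.sub_mem h1 (apply_mem E h1)))
      (Submodule.add_mem _ (Submodule.mem_sup_left (Q.sub_mem hq (hIQ (hEQ q hq))))
        (Submodule.mem_sup_right (mM.sum_mem fun i _ => mM.smul_mem _ (h2 i))))
  have hy : ∀ j, ∃ w ∈ Q, e j - E (e j) - w ∈ mM := by
    intro j
    obtain ⟨w, hw, r, hr, hwr⟩ := Submodule.mem_sup.1 (hEid (e j))
    exact ⟨w, hw, by rw [← hwr, add_sub_cancel_left]; exact hr⟩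
  choose w hw hew using hy
  let H : M →ₗ[WittVector p k] M := ∑ j, (c j).smulRight (w j)
  have hHQ : ∀ x, H x ∈ Q := fun x => by
    simp only [H, LinearMap.sum_apply, LinearMap.smulRight_apply]
    exact Q.sum_mem fun j _ => Q.smul_mem _ (hw j)
  let n : Module.End (WittVector p k) M := LinearMap.id - (E + H)
  have hnm : LinearMap.range n ≤ m • ⊤ := by
    rintro _ ⟨x, rfl⟩
    have : n x = ∑ j, c j x • (e j - E (e j) - w j) := by
      simp only [smul_sub, Finset.sum_sub_distrib, ← map_smul, ← map_sum, ← hce x, n, H, LinearMap.sub_apply,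
        LinearMap.id_apply, LinearMap.add_apply, LinearMap.sum_apply, LinearMap.smulRight_apply]
      abel
    rw [this]
    exact mM.sum_mem fun j _ => mM.smul_mem _ (hew j)
  obtain ⟨P, hP1, -, hP2, hP3⟩ :=
    LinearMap.exists_monic_and_natDegree_eq_and_coeff_mem_pow_and_aeval_eq_zero (WittVector p k) n m hnm
  obtain ⟨g', hg'⟩ := Polynomial.X_sub_C_dvd_sub_C_eval (a := (1 : WittVector p k)) (p := P)
  let g : Module.End (WittVector p k) M := Polynomial.aeval n g'
  have hug : ∀ x, P.eval 1 • x = (E + H) (g x) := by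
    intro x
    have h1 := LinearMap.congr_fun (congrArg (Polynomial.aeval n) hg') x
    simp only [map_sub, map_mul, Polynomial.aeval_C, Polynomial.aeval_X, hP3, map_one, LinearMap.sub_apply,
      LinearMap.zero_apply, zero_sub, Module.End.mul_apply, Module.End.one_apply, Module.algebraMap_end_apply] at h1
    simp only [n, LinearMap.sub_apply, LinearMap.id_apply, LinearMap.add_apply] at h1
    rw [LinearMap.neg_apply, Module.algebraMap_end_apply] at h1
    rw [LinearMap.add_apply, ← neg_inj, h1]
    simp only [g, n]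
    abel
  have hgQ : ∀ q ∈ Q, g q ∈ Q := by
    have hn' : ∀ q ∈ Q, n q ∈ Q := fun q hq => Q.sub_mem hq (Q.add_mem (hIQ (hEQ q hq)) (hHQ q))
    suffices h : ∀ G : Polynomial (WittVector p k), ∀ q ∈ Q, Polynomial.aeval n G q ∈ Q from h g'
    intro G q hq
    induction G using Polynomial.induction_on' with
    | add a b ha hb => rw [map_add]; exact Q.add_mem ha hb
    | monomial i a =>
      rw [Polynomial.aeval_monomial, Module.End.mul_apply, Module.algebraMap_end_apply]
      refine Q.smul_mem _ ?_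
      induction i with
      | zero => simpa using hq
      | succ i ih => rw [pow_succ', Module.End.mul_apply]; exact hn' _ ih
  have hr : P.eval 1 ∈ J := ⟨E.comp g, fun q hq => hEQ _ (hgQ q hq), fun x => by
    rw [hug, LinearMap.add_apply, LinearMap.comp_apply, add_sub_cancel_left]; exact hHQ _⟩
  have h1 : Ideal.Quotient.mk m (P.eval 1) = 1 := by
    rw [Polynomial.eval_eq_sum_range, map_sum, Finset.sum_range_succ, Finset.sum_eq_zero, zero_add, hP1.coeff_natDegree]
    · simp
    · intro i hi
      rw [Finset.mem_range] at hi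
      rw [map_mul, Ideal.Quotient.eq_zero_iff_mem.2 (Ideal.pow_le_self (Nat.sub_ne_zero_of_lt hi) (hP2 i)), zero_mul]
  rw [Ideal.Quotient.eq_zero_iff_mem.2 (hle hr)] at h1
  exact zero_ne_one h1

theorem exists_display3n (F : M →ₛₗ[(WittVector.frobenius : WittVector p k →+* WittVector p k)] M)
    (V : M →ₛₗ[((WittVector.frobeniusEquiv p k).symm : WittVector p k →+* WittVector p k)] M)
    (hFV : ∀ m : M, F (V m) = (p : WittVector p k) • m) (hVF : ∀ m : M, V (F m) = (p : WittVector p k) • m) :
    ∃ D : Display3n p k M, D.F = F ∧ (∀ x : M, x ∈ D.Q ↔ x ∈ Set.range V) ∧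
      ∀ (m : M) (h : V m ∈ D.Q), D.Vinv ⟨V m, h⟩ = m := by
  classical
  let σ : WittVector p k →+* WittVector p k := WittVector.frobenius
  let Q : Submodule (WittVector p k) M :=
    { carrier := Set.range V
      zero_mem' := ⟨0, map_zero _⟩
      add_mem' := by rintro _ _ ⟨a, rfl⟩ ⟨b, rfl⟩; exact ⟨a + b, map_add _ _ _⟩
      smul_mem' := by
        rintro t _ ⟨a, rfl⟩
        exact ⟨σ t • a, by rw [map_smulₛₗ, frobeniusEquiv_symm_frobenius]⟩ }
  have hVinj : Function.Injective V := by
    intro a b hab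
    rw [← sub_eq_zero]
    refine natCast_smul_eq_zero (p := p) (k := k) ?_
    rw [← hFV, map_sub, hab, sub_self, map_zero]
  let VI : Q →ₛₗ[σ] M :=
    { toFun := fun y => y.2.choose
      map_add' := fun a b => hVinj (by rw [map_add, (a + b).2.choose_spec, a.2.choose_spec, b.2.choose_spec]; rfl)
      map_smul' := fun t a => hVinj (by
        rw [map_smulₛₗ, (t • a).2.choose_spec, a.2.choose_spec, frobeniusEquiv_symm_frobenius]; rfl) }
  have hVI : ∀ (m : M) (h : V m ∈ Q), VI ⟨V m, h⟩ = m := fun m h => hVinj h.choose_spec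
  have hVVI : ∀ y : Q, V (VI y) = y := fun y => y.2.choose_spec
  have hIQ : IV p k • (⊤ : Submodule (WittVector p k) M) ≤ Q := by
    refine Submodule.smul_le.2 fun t ht x _ => ?_
    rw [IV_eq_span_natCast, Ideal.mem_span_singleton'] at ht
    obtain ⟨s, rfl⟩ := ht
    rw [mul_smul]
    exact Q.smul_mem _ ⟨F x, hVF x⟩
  haveI : IsAdicComplete (Ideal.span {(p : k)}) k :=
    isAdicComplete_of_isNilpotent ⟨1, by rw [pow_one, CharP.cast_eq_zero]⟩
  obtain ⟨e, heQ, he⟩ := exists_sq_idem F V hFV hVF Q fun x => Iff.rfl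
  have hnormal : ∃ L T : Submodule (WittVector p k) M, IsCompl L T ∧ Q = L ⊔ IV p k • T := by
    refine exists_normalDecomposition Q ⟨LinearMap.range e ⊔ IV p k • ⊤, ?_, le_antisymm ?_ (le_inf hIQ le_sup_right)⟩
    · refine eq_top_iff.2 fun x _ => ?_
      rw [show x = (x - e x) + e x from (sub_add_cancel _ _).symm]
      exact Submodule.add_mem_sup (he x) (Submodule.mem_sup_left ⟨x, rfl⟩)
    · rintro y ⟨hyQ, hy⟩
      obtain ⟨_, ⟨z, rfl⟩, t, ht, rfl⟩ := Submodule.mem_sup.1 hy
      refine Submodule.add_mem _ ?_ ht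
      have hez : e z ∈ Q := by simpa using Q.sub_mem hyQ (hIQ ht)
      have h2 := Submodule.add_mem _ (heQ _ hez) (heQ _ (he z))
      rwa [map_sub, add_sub_cancel] at h2
  refine ⟨{ Q := Q
            F := F
            Vinv := VI
            finite := inferInstance
            projective := inferInstance
            IV_smul_le := hIQ
            exists_normal := hnormal
            span_range_Vinv := eq_top_iff.2 fun x _ => Submodule.subset_span ⟨⟨V x, ⟨x, rfl⟩⟩, hVI x _⟩
            Vinv_verschiebung_smul := fun w x => hVinj (by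
              rw [map_smulₛₗ V w, hVF, smul_smul, ← verschiebung_eq_mul]
              exact hVVI _) }, rfl, fun x => Iff.rfl, hVI⟩

end Groth.Agent.DispLib
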