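import Groth.Agent.DispLib.Basic
import Groth.Prelude.Def_W4c1extbt610Disp

/-!
# Exterior powers of a 3n-display with rank one tangent module
-/

set_option autoImplicit false

noncomputable section

universe u v w

open WittVector
open W4c1extbt610 (IV Display3n IsExtPow IsAltMult IsHom)

namespace Groth.Agent.DispLib

section Expand

variable {A : Type u} [CommRing A] {M : Type v} [AddCommGroup M] [Module A M] {N : Type w} [AddCommGroup N] [Module A N]
variable {r : ℕ} (f : M [⋀^Fin r]→ₗ[A] N)

/-- Expansion of an alternating map along a line. -/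
theorem expand_line (a : Fin r → M) (t : M) (c : Fin r → A) (x : Fin r → M) (hx : ∀ i, x i = a i + c i • t) :
    f x = f a + ∑ i, c i • f (Function.update a i t) := by
  classical
  have h1 : ∀ (s : Finset (Fin r)) (j : Fin r), j ∉ s →
      f (Function.update (s.piecewise x a) j t) = f (Function.update a j t) := by
    intro s
    induction s using Finset.induction with
    | empty => intro j _; rw [Finset.piecewise_empty]
    | insert i s hi ih =>
      intro j hj
      rw [Finset.mem_insert, not_or] at hj
      rw [Finset.piecewise_insert, Function.update_comm hj.1 _ _ _ |> Eq.symm]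
      rw [hx i, AlternatingMap.map_update_add, AlternatingMap.map_update_smul]
      rw [show f (Function.update (Function.update (s.piecewise x a) j t) i t) = 0 from
        f.map_eq_zero_of_eq _ (i := i) (j := j) (by simp [Function.update_of_ne, hj.1]) (Ne.symm hj.1), smul_zero, add_zero]
      rw [show a i = Function.update (s.piecewise x a) j t i by simp [Function.update_of_ne (Ne.symm hj.1), hi],
        Function.update_eq_self]
      exact ih j hj.2
  have h2 : ∀ s : Finset (Fin r), f (s.piecewise x a) = f a + ∑ i ∈ s, c i • f (Function.update a i t) := by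
    intro s
    induction s using Finset.induction with
    | empty => simp
    | insert i s hi ih =>
      rw [Finset.piecewise_insert, hx i, AlternatingMap.map_update_add, AlternatingMap.map_update_smul, h1 s i hi,
        Finset.sum_insert hi]
      rw [show a i = s.piecewise x a i by simp [hi], Function.update_eq_self, ih]
      abel
  simpa using h2 Finset.univ

end Expand

/-- A module twisted along a ring map. -/
def Tw {A B : Type u} [CommRing A] [CommRing B] (_g : A →+* B) (N : Type v) : Type v := N

instance {A B : Type u} [CommRing A] [CommRing B] (g : A →+* B) (N : Type v) [AddCommGroup N] : AddCommGroup (Tw g N) :=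
  inferInstanceAs (AddCommGroup N)

instance {A B : Type u} [CommRing A] [CommRing B] (g : A →+* B) (N : Type v) [AddCommGroup N] [Module B N] :
    Module A (Tw g N) := Module.compHom N g

variable {p : ℕ} [hp : Fact p.Prime] {R : Type u} [CommRing R]
variable {P : Type v} [AddCommGroup P] [Module (WittVector p R) P]

/-- The alternating map `x ↦ ⋀ G x` into the twisted exterior power. -/
def twAlt (r : ℕ) (G : P →ₛₗ[(WittVector.frobenius : WittVector p R →+* WittVector p R)] P) :
    P [⋀^Fin r]→ₗ[WittVector p R]
      Tw (WittVector.frobenius : WittVector p R →+* WittVector p R) (⋀[WittVector p R]^r P) where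
  toFun x := exteriorPower.ιMulti (WittVector p R) r (fun i => G (x i))
  map_update_add' {_} x i a b := by
    change exteriorPower.ιMulti (WittVector p R) r (G ∘ Function.update x i (a + b)) =
      exteriorPower.ιMulti (WittVector p R) r (G ∘ Function.update x i a) +
        exteriorPower.ιMulti (WittVector p R) r (G ∘ Function.update x i b)
    simp only [Function.comp_update, map_add, AlternatingMap.map_update_add]
  map_update_smul' {_} x i c a := by
    change exteriorPower.ιMulti (WittVector p R) r (G ∘ Function.update x i (c • a)) =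
      WittVector.frobenius c • exteriorPower.ιMulti (WittVector p R) r (G ∘ Function.update x i a)
    simp only [Function.comp_update, map_smulₛₗ, AlternatingMap.map_update_smul]
  map_eq_zero_of_eq' x i j hij hne :=
    (exteriorPower.ιMulti (WittVector p R) r).map_eq_zero_of_eq _ (by rw [hij]) hne

/-- The semilinear exterior power of a semilinear endomorphism. -/
def extSemilin (r : ℕ) (G : P →ₛₗ[(WittVector.frobenius : WittVector p R →+* WittVector p R)] P) :
    (⋀[WittVector p R]^r P) →ₛₗ[(WittVector.frobenius : WittVector p R →+* WittVector p R)] (⋀[WittVector p R]^r P) where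
  toFun z := exteriorPower.alternatingMapLinearEquiv (twAlt r G) z
  map_add' x y := map_add (exteriorPower.alternatingMapLinearEquiv (twAlt r G)) x y
  map_smul' c z := map_smul (exteriorPower.alternatingMapLinearEquiv (twAlt r G)) c z

theorem extSemilin_ιMulti (r : ℕ) (G : P →ₛₗ[(WittVector.frobenius : WittVector p R →+* WittVector p R)] P)
    (x : Fin r → P) :
    extSemilin r G (exteriorPower.ιMulti (WittVector p R) r x) =
      exteriorPower.ιMulti (WittVector p R) r (fun i => G (x i)) :=
  (exteriorPower.alternatingMapLinearEquiv_apply_ιMulti (twAlt r G) x).trans rfl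

theorem F_eq_Vinv (D : Display3n p R P) (x : P) :
    D.F x = D.Vinv ⟨verschiebung (1 : WittVector p R) • x,
      D.IV_smul_le (Submodule.smul_mem_smul (W4c1extbt610.verschiebung_mem_IV p R 1) Submodule.mem_top)⟩ := by
  rw [D.Vinv_verschiebung_smul, one_smul]

variable (D : Display3n p R P) (r : ℕ)

theorem extPow_unique {E E' : Display3n p R (⋀[WittVector p R]^r P)} (hE : IsExtPow D r E) (hE' : IsExtPow D r E') :
    E' = E := by
  have hQ : E'.Q = E.Q := hE'.1.trans hE.1.symm
  have hV : ∀ (z : ⋀[WittVector p R]^r P) (h : z ∈ E.Q), E'.Vinv ⟨z, hQ ▸ h⟩ = E.Vinv ⟨z, h⟩ := by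
    intro z h
    have hz : z ∈ Submodule.span (WittVector p R)
        (Set.range fun q : Fin r → D.Q => exteriorPower.ιMulti (WittVector p R) r (fun i => (q i : P))) := hE.1 ▸ h
    revert h
    induction hz using Submodule.span_induction with
    | mem x hx =>
      obtain ⟨q, rfl⟩ := hx
      intro h
      rw [hE.2 q h, hE'.2 q (hQ ▸ h)]
    | zero =>
      intro h
      rw [show (⟨0, hQ ▸ h⟩ : E'.Q) = 0 from rfl, show (⟨0, h⟩ : E.Q) = 0 from rfl, map_zero, map_zero]
    | add x y hx hy ihx ihy =>
      intro h
      have mx : x ∈ E.Q := hE.1.symm ▸ hx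
      have my : y ∈ E.Q := hE.1.symm ▸ hy
      rw [show (⟨x + y, hQ ▸ h⟩ : E'.Q) = ⟨x, hQ ▸ mx⟩ + ⟨y, hQ ▸ my⟩ from rfl,
        show (⟨x + y, h⟩ : E.Q) = ⟨x, mx⟩ + ⟨y, my⟩ from rfl, map_add, map_add, ihx mx, ihy my]
    | smul c x hx ih =>
      intro h
      have mx : x ∈ E.Q := hE.1.symm ▸ hx
      rw [show (⟨c • x, hQ ▸ h⟩ : E'.Q) = c • ⟨x, hQ ▸ mx⟩ from rfl,
        show (⟨c • x, h⟩ : E.Q) = c • ⟨x, mx⟩ from rfl, map_smulₛₗ, map_smulₛₗ, ih mx]
  have hF : E'.F = E.F := LinearMap.ext fun z => by rw [F_eq_Vinv E', F_eq_Vinv E]; exact hV _ _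
  obtain ⟨Q', F', V', _, _, _, _, _, _⟩ := E'
  obtain ⟨Q, F, V, _, _, _, _, _, _⟩ := E
  dsimp only at hQ hF hV
  obtain rfl := hQ
  obtain rfl := hF
  obtain rfl : V' = V := LinearMap.ext fun z => hV z.1 z.2
  rfl

/-- The data attached to a normal decomposition with `T` free of rank one. -/
theorem exists_line (hT : ∃ L T : Submodule (WittVector p R) P, IsCompl L T ∧ D.Q = L ⊔ IV p R • T ∧
      Nonempty (T ≃ₗ[WittVector p R] WittVector p R)) :
    ∃ (θ : P →ₗ[WittVector p R] WittVector p R) (τ : P), θ τ = 1 ∧ (∀ x, x - θ x • τ ∈ D.Q) ∧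
      ∀ y ∈ D.Q, (θ y).coeff 0 = 0 := by
  obtain ⟨L, T, hLT, hQ, ⟨e⟩⟩ := hT
  let pr := T.projectionOnto L hLT.symm
  refine ⟨e.toLinearMap.comp pr, (e.symm 1 : T), ?_, fun x => ?_, fun y hy => ?_⟩
  · show e (pr (e.symm 1 : T)) = 1
    rw [Submodule.projectionOnto_apply_left, e.apply_symm_apply]
  · have h1 : e (pr x) • ((e.symm 1 : T) : P) = (pr x : P) := by
      rw [← Submodule.coe_smul, ← map_smul, smul_eq_mul, mul_one, e.symm_apply_apply]
    show x - e (pr x) • ((e.symm 1 : T) : P) ∈ D.Q
    rw [h1, hQ]
    refine Submodule.mem_sup_left ?_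
    rw [← Submodule.projectionOnto_apply_eq_zero_iff hLT.symm, map_sub, Submodule.projectionOnto_apply_left, sub_self]
  · rw [hQ] at hy
    obtain ⟨l, hl, t, ht, rfl⟩ := Submodule.mem_sup.1 hy
    show (e (pr (l + t))).coeff 0 = 0
    rw [map_add, (Submodule.projectionOnto_apply_eq_zero_iff hLT.symm).2 hl, zero_add]
    exact mem_IV.1 (coord_mem (e.toLinearMap.comp pr) (Submodule.smul_mono le_rfl le_top ht))

/-- Existence of the exterior power display. -/
theorem exists_extPow {θ : P →ₗ[WittVector p R] WittVector p R} {τ : P} (hθτ : θ τ = 1)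
    (hθ1 : ∀ x, x - θ x • τ ∈ D.Q) (hθ2 : ∀ y ∈ D.Q, (θ y).coeff 0 = 0) :
    ∃ E : Display3n p R (⋀[WittVector p R]^r P), IsExtPow D r E := by
  classical
  haveI := D.finite
  haveI := D.projective
  let ι := exteriorPower.ιMulti (WittVector p R) r (M := P)
  let pl : P →ₗ[WittVector p R] P := LinearMap.id - θ.smulRight τ
  have hpl : ∀ x, pl x = x - θ x • τ := fun x => rfl
  have hplτ : pl τ = 0 := by rw [hpl, hθτ, one_smul, sub_self]
  have hplpl : pl.comp pl = pl := LinearMap.ext fun x => by
    show pl (pl x) = pl x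
    rw [hpl x, map_sub, map_smul, hplτ, smul_zero, sub_zero, hpl]
  let Lm := exteriorPower.map r pl
  let pT : (⋀[WittVector p R]^r P) →ₗ[WittVector p R] (⋀[WittVector p R]^r P) := LinearMap.id - Lm
  have hLmι : ∀ x, Lm (ι x) = ι (fun i => pl (x i)) := fun x => exteriorPower.map_apply_ιMulti pl x
  have hLL : ∀ z, Lm (Lm z) = Lm z := fun z => by
    show Lm.comp Lm z = Lm z
    rw [← exteriorPower.map_comp, hplpl]
  have hpT : ∀ z, pT (pT z) = pT z := fun z => by simp [pT, hLL]
  have hLT0 : ∀ z, Lm (pT z) = 0 := fun z => by simp [pT, hLL]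
  have hexp : ∀ x, ι x = ι (fun i => pl (x i)) + ∑ i, θ (x i) • ι (Function.update (fun i => pl (x i)) i τ) :=
    fun x => expand_line ι _ τ _ x fun i => (sub_add_cancel _ _).symm
  have hpTι : ∀ x, pT (ι x) = ∑ i, θ (x i) • ι (Function.update (fun i => pl (x i)) i τ) := fun x => by
    show ι x - Lm (ι x) = _
    rw [hLmι]
    conv_lhs => rw [hexp x]
    rw [add_sub_cancel_left]
  have hfix : ∀ (x : Fin r → P) i, pT (ι (Function.update x i τ)) = ι (Function.update x i τ) := fun x i => by
    show ι (Function.update x i τ) - Lm (ι (Function.update x i τ)) = _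
    rw [hLmι, (exteriorPower.ιMulti (WittVector p R) r).map_coord_zero
      (m := fun j => pl (Function.update x i τ j)) i (by simp [hplτ]), sub_zero]
  obtain ⟨n, C, b, hCb⟩ : ∃ (n : ℕ) (C : Fin n → ((⋀[WittVector p R]^r P) →ₗ[WittVector p R] WittVector p R))
      (b : Fin n → ⋀[WittVector p R]^r P), ∀ z, z = ∑ i, C i z • b i := by
    obtain ⟨N, f, g, -, -, hfg⟩ := Module.Finite.exists_comp_eq_id_of_projective (WittVector p R) P
    haveI : Module.Projective (WittVector p R) (⋀[WittVector p R]^r P) :=
      Module.Projective.of_split (exteriorPower.map r g) (exteriorPower.map r f)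
        (by rw [← exteriorPower.map_comp, hfg, exteriorPower.map_id])
    exact exists_dualBasis _ _
  let Qr : Submodule (WittVector p R) (⋀[WittVector p R]^r P) := (IV p R • ⊤ : Submodule _ _).comap pT
  let σ : WittVector p R →+* WittVector p R := WittVector.frobenius
  let G : P →ₛₗ[σ] P :=
    { toFun := fun x => D.Vinv ⟨pl x, hθ1 x⟩ + σ (θ x) • D.F τ
      map_add' := fun x y => by
        rw [show (⟨pl (x + y), hθ1 (x + y)⟩ : D.Q) = ⟨pl x, hθ1 x⟩ + ⟨pl y, hθ1 y⟩ from Subtype.ext (map_add pl x y),
          map_add, map_add, map_add, add_smul]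
        abel
      map_smul' := fun c x => by
        rw [show (⟨pl (c • x), hθ1 (c • x)⟩ : D.Q) = c • ⟨pl x, hθ1 x⟩ from Subtype.ext (map_smul pl c x), map_smulₛₗ,
          map_smul, smul_eq_mul, map_mul, mul_smul, smul_add] }
  have hGτ : G τ = D.F τ := by
    show D.Vinv ⟨pl τ, _⟩ + σ (θ τ) • D.F τ = _
    rw [show (⟨pl τ, hθ1 τ⟩ : D.Q) = 0 from Subtype.ext hplτ, map_zero, zero_add, hθτ, map_one, one_smul]
  have hGl : ∀ x, G (pl x) = D.Vinv ⟨pl x, hθ1 x⟩ := fun x => by
    show D.Vinv ⟨pl (pl x), _⟩ + σ (θ (pl x)) • D.F τ = _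
    rw [show θ (pl x) = 0 by rw [hpl, map_sub, map_smul, hθτ, smul_eq_mul, mul_one, sub_self], map_zero, zero_smul,
      add_zero]
    exact congrArg D.Vinv (Subtype.ext (LinearMap.congr_fun hplpl x))
  let Gr := extSemilin r G
  have hQc : ∀ z ∈ Qr, ∀ i, (C i (pT z)).coeff 0 = 0 := fun z hz i => mem_IV.1 (coord_mem (C i) hz)
  let Vr : Qr →ₛₗ[σ] (⋀[WittVector p R]^r P) :=
    { toFun := fun z => Gr (Lm z) + ∑ i, vInv (C i (pT z)) • Gr (pT (b i))
      map_add' := fun z w => by
        simp only [Submodule.coe_add, map_add, vInv_add (hQc z z.2 _) (hQc w w.2 _), add_smul, Finset.sum_add_distrib]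
        abel
      map_smul' := fun t z => by
        simp only [Submodule.coe_smul, map_smul, map_smulₛₗ, smul_eq_mul, vInv_mul t (hQc z z.2 _), mul_smul,
          ← Finset.smul_sum, smul_add]
        rfl }
  have hpsi : ∀ (c : WittVector p R), c.coeff 0 = 0 → ∀ u, pT u = u →
      ∑ i, vInv (C i (c • u)) • Gr (pT (b i)) = vInv c • Gr u := by
    intro c hc u hu
    conv_rhs => rw [← hu, hCb u, map_sum, map_sum, Finset.smul_sum]
    refine Finset.sum_congr rfl fun i _ => ?_
    rw [map_smul, smul_eq_mul, mul_comm, vInv_mul _ hc, map_smul, map_smulₛₗ, smul_smul, mul_comm]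
  have hιQ : ∀ q : Fin r → D.Q, ι (fun i => (q i : P)) ∈ Qr := fun q => by
    show pT (ι fun i => (q i : P)) ∈ (IV p R • ⊤ : Submodule (WittVector p R) (⋀[WittVector p R]^r P))
    rw [hpTι]
    exact Submodule.sum_mem _ fun i _ => Submodule.smul_mem_smul (mem_IV.2 (hθ2 _ (q i).2)) Submodule.mem_top
  have hVι : ∀ (q : Fin r → D.Q) (h : ι (fun i => (q i : P)) ∈ Qr), Vr ⟨_, h⟩ = ι (fun i => D.Vinv (q i)) := by
    intro q h
    show Gr (Lm (ι fun i => (q i : P))) + ∑ i, vInv (C i (pT (ι fun i => (q i : P)))) • Gr (pT (b i)) = _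
    rw [hLmι, hpTι, extSemilin_ιMulti]
    simp only [map_sum]
    have hc : ∀ i, (θ (q i : P)).coeff 0 = 0 := fun i => hθ2 _ (q i).2
    have e1 : ∀ (S : Finset (Fin r)) (u : Fin r → ⋀[WittVector p R]^r P), (∀ j, pT (u j) = u j) →
        ∑ i, vInv (∑ j ∈ S, C i (θ (q j : P) • u j)) • Gr (pT (b i)) = ∑ j ∈ S, vInv (θ (q j : P)) • Gr (u j) := by
      intro S u hu
      induction S using Finset.induction with
      | empty =>
        simp only [Finset.sum_empty]
        refine Finset.sum_eq_zero fun i _ => ?_
        rw [show vInv (0 : WittVector p R) = 0 from WittVector.ext fun n => by simp [vInv, shift_coeff, zero_coeff], zero_smul]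
      | insert j S hj ih =>
        simp only [Finset.sum_insert hj]
        rw [← hpsi _ (hc j) _ (hu j), ← ih, ← Finset.sum_add_distrib]
        refine Finset.sum_congr rfl fun i _ => ?_
        rw [← add_smul, vInv_add]
        · rw [map_smul, smul_eq_mul]
          exact mem_IV.1 (Ideal.mul_mem_right _ _ (mem_IV.2 (hc j)))
        · refine mem_IV.1 (Ideal.sum_mem _ fun l _ => ?_)
          rw [map_smul, smul_eq_mul]
          exact Ideal.mul_mem_right _ _ (mem_IV.2 (hc l))
    rw [e1 Finset.univ _ (fun j => hfix _ j)]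
    symm
    have hq : ∀ i, D.Vinv (q i) = G (pl (q i : P)) + vInv (θ (q i : P)) • G τ := by
      intro i
      rw [hGl, hGτ, ← Vinv_smul D (hc i) τ (smul_mem_Q D (hc i) τ), ← map_add]
      exact congrArg D.Vinv (Subtype.ext (sub_add_cancel _ _).symm)
    rw [expand_line ι (fun i => G (pl (q i : P))) (G τ) (fun i => vInv (θ (q i : P))) _ hq]
    refine congrArg _ (Finset.sum_congr rfl fun i _ => ?_)
    rw [extSemilin_ιMulti]
    congr 2
    exact (Function.comp_update G _ i τ).symm
  let Fr : (⋀[WittVector p R]^r P) →ₛₗ[σ] (⋀[WittVector p R]^r P) :=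
    (p : WittVector p R) • Gr.comp Lm + Gr.comp pT
  have hle : IV p R • (⊤ : Submodule (WittVector p R) (⋀[WittVector p R]^r P)) ≤ Qr :=
    fun z hz => Submodule.smul_induction_on hz
      (fun t ht v _ => show pT (t • v) ∈ (IV p R • ⊤ : Submodule (WittVector p R) (⋀[WittVector p R]^r P)) by rw [map_smul]; exact Submodule.smul_mem_smul ht Submodule.mem_top)
      (fun u v hu hv => Qr.add_mem hu hv)
  have hVV : ∀ (w : WittVector p R) z (h : verschiebung w • z ∈ Qr), Vr ⟨_, h⟩ = w • Fr z := by
    intro w z h
    show Gr (Lm (verschiebung w • z)) + ∑ i, vInv (C i (pT (verschiebung w • z))) • Gr (pT (b i)) = _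
    rw [map_smul, map_smulₛₗ, map_smul pT, hpsi _ (verschiebung_coeff_zero w) _ (hpT z), vInv_verschiebung,
      show σ (verschiebung w) = w * (p : WittVector p R) from frobenius_verschiebung w, mul_smul, ← smul_add]
    rfl
  have hspanQ : Qr = Submodule.span (WittVector p R)
      (Set.range fun q : Fin r → D.Q => exteriorPower.ιMulti (WittVector p R) r (fun i => (q i : P))) := by
    refine le_antisymm (fun z hz => ?_) (Submodule.span_le.2 (by rintro _ ⟨q, rfl⟩; exact hιQ q))
    set S := Submodule.span (WittVector p R)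
      (Set.range fun q : Fin r → D.Q => exteriorPower.ιMulti (WittVector p R) r (fun i => (q i : P)))
    have htop := exteriorPower.ιMulti_span (WittVector p R) r P
    rw [show z = Lm z + pT z by simp [pT]]
    refine S.add_mem ?_ ?_
    · clear hz
      have hz' : z ∈ Submodule.span (WittVector p R) (Set.range ι) := htop ▸ Submodule.mem_top
      induction hz' using Submodule.span_induction with
      | mem x hx =>
        obtain ⟨x, rfl⟩ := hx
        rw [hLmι]
        exact Submodule.subset_span ⟨fun i => ⟨pl (x i), hθ1 (x i)⟩, rfl⟩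
      | zero => simp
      | add x y _ _ hx hy => rw [map_add]; exact S.add_mem hx hy
      | smul c x _ hx => rw [map_smul]; exact S.smul_mem c hx
    · rw [← hpT z]
      refine Submodule.smul_induction_on (show pT z ∈ (IV p R • ⊤ : Submodule (WittVector p R) (⋀[WittVector p R]^r P)) from hz) (fun t ht v hvt => ?_)
        (fun u v hu hv => by rw [map_add]; exact S.add_mem hu hv)
      rw [map_smul]
      clear hvt
      have hv : v ∈ Submodule.span (WittVector p R) (Set.range ι) := htop ▸ Submodule.mem_top
      induction hv using Submodule.span_induction with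
      | mem x hx =>
        obtain ⟨x, rfl⟩ := hx
        rw [hpTι, Finset.smul_sum]
        refine S.sum_mem fun i _ => ?_
        rw [smul_comm, ← AlternatingMap.map_update_smul]
        refine S.smul_mem _ (Submodule.subset_span
          ⟨Function.update (fun j => ⟨pl (x j), hθ1 (x j)⟩) i ⟨t • τ, smul_mem_Q D (mem_IV.1 ht) τ⟩, ?_⟩)
        show ι _ = ι _
        congr 1
        funext j
        rcases eq_or_ne j i with rfl | hj
        · simp
        · simp [Function.update_of_ne hj]
      | zero => simp
      | add x y _ _ hx hy => rw [map_add, smul_add]; exact S.add_mem hx hy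
      | smul c x _ hx => rw [map_smul, smul_comm]; exact S.smul_mem c hx
  refine ⟨{ Q := Qr
            F := Fr
            Vinv := Vr
            finite := inferInstance
            projective := Module.Projective.of_split (LinearMap.pi C)
              (Fintype.linearCombination (WittVector p R) b) (LinearMap.ext fun z => by
                simp only [LinearMap.comp_apply, Fintype.linearCombination_apply, LinearMap.pi_apply, LinearMap.id_apply]
                exact (hCb z).symm)
            IV_smul_le := hle
            exists_normal := ?_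
            span_range_Vinv := ?_
            Vinv_verschiebung_smul := fun w z => hVV w z _ }, hspanQ, hVι⟩
  · refine ⟨LinearMap.ker pT, LinearMap.range pT,
      (LinearMap.IsIdempotentElem.isCompl (show IsIdempotentElem pT from LinearMap.ext hpT)).symm,
      le_antisymm (fun z hz => ?_) (sup_le (fun z hz => ?_) ((Submodule.smul_mono le_rfl le_top).trans hle))⟩
    · rw [show z = (z - pT z) + pT z from (sub_add_cancel _ _).symm]
      refine Submodule.add_mem_sup (by simp [hpT]) ?_
      rw [← hpT z, hCb (pT z), map_sum]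
      exact Submodule.sum_mem _ fun i _ => by
        rw [map_smul]; exact Submodule.smul_mem_smul (mem_IV.2 (hQc z hz i)) ⟨_, rfl⟩
    · show pT z ∈ (IV p R • ⊤ : Submodule (WittVector p R) (⋀[WittVector p R]^r P))
      rw [LinearMap.mem_ker.1 hz]; exact Submodule.zero_mem _
  · rw [eq_top_iff, ← exteriorPower.ιMulti_span_of_span (WittVector p R) r P D.span_range_Vinv, Submodule.span_le]
    rintro _ ⟨x, hx, rfl⟩
    choose q hq using fun i => hx ⟨i, rfl⟩
    refine Submodule.subset_span ⟨⟨_, hιQ q⟩, ?_⟩
    rw [hVι q (hιQ q)]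
    exact congrArg _ (funext hq)

theorem isAltMult_of_isExtPow {E : Display3n p R (⋀[WittVector p R]^r P)} (hE : IsExtPow D r E) :
    IsAltMult D E (exteriorPower.ιMulti (WittVector p R) r) := by
  classical
  have hmem : ∀ q : Fin r → D.Q, exteriorPower.ιMulti (WittVector p R) r (fun i => (q i : P)) ∈ E.Q := fun q =>
    hE.1.symm ▸ Submodule.subset_span ⟨q, rfl⟩
  refine ⟨hmem, fun q => hE.2 q _, fun i x q => ?_⟩
  rw [F_eq_Vinv E, F_eq_Vinv D x]
  let x' : D.Q := ⟨verschiebung (1 : WittVector p R) • x,
    D.IV_smul_le (Submodule.smul_mem_smul (W4c1extbt610.verschiebung_mem_IV p R 1) Submodule.mem_top)⟩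
  have e0 : (fun j => ((Function.update q i x' j : D.Q) : P)) =
      Function.update (fun j => (q j : P)) i (verschiebung (1 : WittVector p R) • x) :=
    Function.comp_update (fun z : D.Q => (z : P)) q i x'
  have e1 : verschiebung (1 : WittVector p R) • exteriorPower.ιMulti (WittVector p R) r (Function.update (fun j => (q j : P)) i x) =
      exteriorPower.ιMulti (WittVector p R) r (fun j => ((Function.update q i x' j : D.Q) : P)) := by
    rw [e0, AlternatingMap.map_update_smul]
  refine (congrArg E.Vinv (Subtype.ext e1 : (⟨_, _⟩ : E.Q) = ⟨_, hmem _⟩)).trans ((hE.2 _ _).trans ?_)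
  exact congrArg _ (Function.comp_update D.Vinv q i x')

end Groth.Agent.DispLib
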