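import Groth.Agent.DispLib.Rigid

/-!
# Homomorphisms of displays and reduction along nilpotent thickenings
-/

set_option autoImplicit false

noncomputable section

universe u v

open WittVector
open W4c1extbt610 (IV Display3n)

namespace Groth.Agent.DispLib

section BC

variable {A B : Type u} [CommRing A] [CommRing B] (g : A →+* B) {M : Type v} [AddCommGroup M] [Module A M]

theorem bc_eq_one_tmul (hg : Function.Surjective g) (z : Dieu.BC g M) : ∃ y, Dieu.BC.tmul g 1 y = z := by
  induction z using Dieu.BC.induction_on with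
  | zero => exact ⟨0, Dieu.BC.tmul_zero _ _⟩
  | tmul b x => obtain ⟨a, rfl⟩ := hg b; exact ⟨a • x, (Dieu.BC.tmul_apply_eq g a x).symm⟩
  | add z w hz hw =>
    obtain ⟨y, rfl⟩ := hz
    obtain ⟨y', rfl⟩ := hw
    exact ⟨y + y', Dieu.BC.tmul_add _ _ _ _⟩

theorem one_tmul_eq_zero_iff [Module.Finite A M] [Module.Projective A M] {z : M} :
    Dieu.BC.tmul g 1 z = 0 ↔ z ∈ RingHom.ker g • (⊤ : Submodule A M) := by
  constructor
  · intro h
    obtain ⟨r, c, e, hce⟩ := exists_dualBasis A M
    rw [hce z]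
    refine Submodule.sum_mem _ fun i _ => Submodule.smul_mem_smul (RingHom.mem_ker.2 ?_) Submodule.mem_top
    simpa using congrArg (Dieu.BC.lift g ((Dieu.semilinearOfRingHom g).comp (c i))) h
  · intro h
    refine Submodule.smul_induction_on h (fun a ha v _ => ?_) (fun a b ha hb => ?_)
    · rw [← Dieu.BC.tmul_apply_eq, RingHom.mem_ker.1 ha, Dieu.BC.zero_tmul]
    · rw [Dieu.BC.tmul_add, ha, hb, add_zero]

end BC

variable {p : ℕ} [hp : Fact p.Prime] {S R : Type u} [CommRing S] [CommRing R]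
variable {P P' : Type v} [AddCommGroup P] [Module (WittVector p S) P] [AddCommGroup P'] [Module (WittVector p S) P']

local notation "W" => WittVector p S

theorem map_natCast_mul_of_pow {f : S →+* R} {n : ℕ} (hn : step (RingHom.ker f) p n = ⊥) {z : P'}
    (hz : z ∈ RingHom.ker (WittVector.map f : W →+* WittVector p R) • (⊤ : Submodule W P')) :
    (p : W) ^ n • z = 0 := by
  refine Submodule.smul_induction_on hz (fun a ha v _ => ?_) (fun a b ha hb => ?_)
  · rw [ker_map_eq] at ha
    have := pow_mul_mem_WI_step ha n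
    rw [hn, WI_bot, Ideal.mem_bot] at this
    rw [smul_smul, this, zero_smul]
  · rw [smul_add, ha, hb, add_zero]

variable (f : S →+* R) (D : Display3n p S P) (D' : Display3n p S P')


variable {DR : Display3n p R (Dieu.BC (WittVector.map f : WittVector p S →+* WittVector p R) P)} {DR' : Display3n p R (Dieu.BC (WittVector.map f : WittVector p S →+* WittVector p R) P')}

theorem one_tmul_mem_Q (hDR : Dieu.IsDispBaseChange f D DR) (y : D.Q) :
    Dieu.BC.tmul (WittVector.map f : WittVector p S →+* WittVector p R) 1 (y : P) ∈ DR.Q := by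
  rw [hDR.Q_eq, LinearMap.mem_ker, Dieu.bcQuotMap_tmul, Submodule.mkQ_apply,
    (Submodule.Quotient.mk_eq_zero _).2 y.2, Dieu.BC.tmul_zero]

/-- Homomorphisms over `R` lift to homomorphisms over `S` after multiplication by a power of `p`. -/
theorem exists_lift (hf : Function.Surjective f) {n : ℕ} (hn : step (RingHom.ker f) p n = ⊥)
    (hDR : Dieu.IsDispBaseChange f D DR) (hDR' : Dieu.IsDispBaseChange f D' DR')
    (χ : Dieu.BC (WittVector.map f : WittVector p S →+* WittVector p R) P →ₗ[WittVector p R] Dieu.BC (WittVector.map f : WittVector p S →+* WittVector p R) P') (hχ : W4c1extbt610.IsHom DR DR' χ) :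
    ∃ ψ : P →ₗ[W] P', W4c1extbt610.IsHom D D' ψ ∧
      Dieu.BC.map (WittVector.map f : WittVector p S →+* WittVector p R) ψ = ((p : WittVector p R) ^ n) • χ := by
  classical
  haveI := D.finite
  haveI := D.projective
  haveI := D'.finite
  haveI := D'.projective
  obtain ⟨r, c, e, hce⟩ := exists_dualBasis W P
  obtain ⟨r', c', e', hce'⟩ := exists_dualBasis W P'
  obtain ⟨πT, hπQ, hπI⟩ := exists_tProj D'
  choose y hy using fun i => bc_eq_one_tmul (WittVector.map f : WittVector p S →+* WittVector p R) (map_surjective hf) (χ (Dieu.BC.tmul (WittVector.map f : WittVector p S →+* WittVector p R) 1 (e i)))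
  let ψ0 : P →ₗ[W] P' := ∑ i, (c i).smulRight (y i)
  have h0 : ∀ x, Dieu.BC.tmul (WittVector.map f : WittVector p S →+* WittVector p R) 1 (ψ0 x) = χ (Dieu.BC.tmul (WittVector.map f : WittVector p S →+* WittVector p R) 1 x) := by
    intro x
    show Dieu.BC.ι (WittVector.map f : WittVector p S →+* WittVector p R) P' (ψ0 x) = χ (Dieu.BC.ι (WittVector.map f : WittVector p S →+* WittVector p R) P x)
    conv_rhs => rw [hce x, map_sum, map_sum]
    simp only [ψ0, LinearMap.sum_apply, LinearMap.smulRight_apply, map_sum, map_smulₛₗ, RingHom.id_apply]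
    exact Finset.sum_congr rfl fun i _ => by rw [Dieu.BC.ι_apply, hy i]; rfl
  have hkill : ∀ u v : P', Dieu.BC.tmul (WittVector.map f : WittVector p S →+* WittVector p R) 1 u = Dieu.BC.tmul (WittVector.map f : WittVector p S →+* WittVector p R) 1 v → (p : W) ^ n • u = (p : W) ^ n • v := by
    intro u v huv
    rw [← sub_eq_zero, ← smul_sub]
    refine map_natCast_mul_of_pow hn ((one_tmul_eq_zero_iff (WittVector.map f : WittVector p S →+* WittVector p R)).1 ?_)
    show Dieu.BC.ι (WittVector.map f : WittVector p S →+* WittVector p R) P' (u - v) = 0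
    rw [map_sub, Dieu.BC.ι_apply, Dieu.BC.ι_apply, huv, sub_self]
  -- decomposition of `ψ0 y`
  have hsplit : ∀ q : D.Q, ∃ q' : D'.Q, Dieu.BC.tmul (WittVector.map f : WittVector p S →+* WittVector p R) 1 (ψ0 q) = Dieu.BC.tmul (WittVector.map f : WittVector p S →+* WittVector p R) 1 (q' : P') := by
    intro q
    set z := ψ0 q with hz
    have h1 : Dieu.BC.tmul (WittVector.map f : WittVector p S →+* WittVector p R) 1 z ∈ DR'.Q := h0 q ▸ hχ.mapsTo _ (one_tmul_mem_Q f D hDR q)
    rw [hDR'.Q_eq, LinearMap.mem_ker, Dieu.bcQuotMap_tmul, map_one] at h1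
    let g' := (constantCoeff : WittVector p R →+* R).comp (WittVector.map f : WittVector p S →+* WittVector p R)
    have hco : ∀ j, (c' j (πT z)).coeff 0 ∈ RingHom.ker f := by
      intro j
      let φ0 : P' →ₛₗ[g'] R := (Dieu.semilinearOfRingHom g').comp ((c' j).comp πT)
      let φ : (P' ⧸ D'.Q) →ₛₗ[g'] R := D'.Q.liftQ φ0 fun u hu => LinearMap.mem_ker.2 (by
        show f ((c' j (πT u)).coeff 0) = 0
        rw [mem_IV.1 (coord_mem _ (hπI u hu)), map_zero])
      have h2 := congrArg (Dieu.BC.lift g' φ) h1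
      rw [Dieu.BC.lift_tmul, one_smul, map_zero] at h2
      exact RingHom.mem_ker.2 h2
    let d : Fin r' → W := fun j => c' j (πT z) - teichmuller p ((c' j (πT z)).coeff 0)
    refine ⟨⟨(z - πT z) + ∑ j, d j • e' j, D'.Q.add_mem (hπQ z)
      (D'.Q.sum_mem fun j _ => smul_mem_Q D' (coeff_zero_sub_teichmuller _) _)⟩, ?_⟩
    have h3 : z = (z - πT z) + ∑ j, d j • e' j + ∑ j, teichmuller p ((c' j (πT z)).coeff 0) • e' j := by
      rw [add_assoc, ← Finset.sum_add_distrib]
      simp only [d, ← add_smul, sub_add_cancel, ← hce' (πT z)]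
    conv_lhs => rw [h3, Dieu.BC.tmul_add]
    rw [(one_tmul_eq_zero_iff (WittVector.map f : WittVector p S →+* WittVector p R)).2 (Submodule.sum_mem _ fun j _ => Submodule.smul_mem_smul
      ((ker_map_eq (p := p) f).symm ▸ teichmuller_mem_WI (p := p) (hco j)) Submodule.mem_top), add_zero]
  let ψ : P →ₗ[W] P' := (p : W) ^ n • ψ0
  have hmaps : ∀ q : P, q ∈ D.Q → ψ q ∈ D'.Q := by
    intro q hq
    obtain ⟨q', hq'⟩ := hsplit ⟨q, hq⟩
    show (p : W) ^ n • ψ0 q ∈ D'.Q
    rw [hkill _ _ hq']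
    exact D'.Q.smul_mem _ q'.2
  refine ⟨ψ, ⟨hmaps, fun x => ?_, fun q => ?_⟩, ?_⟩
  · show (p : W) ^ n • ψ0 (D.F x) = D'.F ((p : W) ^ n • ψ0 x)
    rw [map_smulₛₗ, map_pow, map_natCast]
    refine hkill _ _ ?_
    rw [h0, ← map_one (frobenius : WittVector p R →+* _), ← hDR.F_tmul, hχ.comm_F, ← h0, hDR'.F_tmul]
  · obtain ⟨q', hq'⟩ := hsplit q
    have e1 : (⟨ψ q, hmaps q q.2⟩ : D'.Q) = (p : W) ^ n • q' := Subtype.ext (hkill _ _ hq')
    rw [e1, map_smulₛₗ, map_pow, map_natCast]
    refine hkill _ _ ?_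
    have hq1 : Dieu.BC.tmul (WittVector.map f : WittVector p S →+* WittVector p R) 1 (q : P) ∈ DR.Q := one_tmul_mem_Q f D hDR q
    have e2 : (⟨χ (Dieu.BC.tmul (WittVector.map f : WittVector p S →+* WittVector p R) 1 (q : P)), hχ.mapsTo _ hq1⟩ : DR'.Q) =
        ⟨Dieu.BC.tmul (WittVector.map f : WittVector p S →+* WittVector p R) 1 (q' : P'), one_tmul_mem_Q f D' hDR' q'⟩ := Subtype.ext ((h0 q).symm.trans hq')
    rw [h0, ← map_one (frobenius : WittVector p R →+* _), ← hDR.Vinv_tmul 1 q hq1, hχ.comm_Vinv ⟨_, hq1⟩, e2,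
      hDR'.Vinv_tmul 1 q' _]
  · refine Dieu.BC.ext (WittVector.map f : WittVector p S →+* WittVector p R) fun x => ?_
    rw [Dieu.BC.map_tmul]
    show _ = ((p : WittVector p R) ^ n) • χ _
    rw [← h0]
    show Dieu.BC.ι (WittVector.map f : WittVector p S →+* WittVector p R) P' ((p : W) ^ n • ψ0 x) = _
    rw [map_smulₛₗ, map_pow, map_natCast]; rfl

end Groth.Agent.DispLib
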