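import Groth.Agent.DispLib.Basic
import Groth.Agent.CAlgH.WittAdic
import Groth.Prelude.Def_Disp2

/-!
# Iterates of `V^#` modulo truncation
-/

set_option autoImplicit false

noncomputable section

universe u v

open WittVector
open W4c1extbt610 (IV Display3n)

namespace Groth.Agent.DispLib

variable {p : ℕ} [hp : Fact p.Prime] {R : Type u} [CommRing R]
variable {P : Type v} [AddCommGroup P] [Module (WittVector p R) P]

local notation "W" => WittVector p R
local notation "σ" => (WittVector.frobenius : WittVector p R →+* WittVector p R)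

theorem frobenius_pow_mem_J (k : ℕ) {t : W} (ht : t ∈ IV p R ⊔ Ideal.span {(p : W)}) :
    (σ ^ k) t ∈ IV p R ⊔ Ideal.span {(p : W)} := by
  induction k with
  | zero => simpa using ht
  | succ k ih =>
    rw [pow_succ']
    obtain ⟨a, ha, b, hb, hab⟩ := Submodule.mem_sup.1 ih
    show σ ((σ ^ k) t) ∈ _
    obtain ⟨c, rfl⟩ := Ideal.mem_span_singleton'.1 hb
    rw [← hab, map_add, map_mul, map_natCast, ← verschiebung_vInv (mem_IV.1 ha), frobenius_verschiebung]
    exact Submodule.mem_sup_right (Ideal.add_mem _ (Ideal.mul_mem_left _ _ (Ideal.mem_span_singleton_self _))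
      (Ideal.mul_mem_left _ _ (Ideal.mem_span_singleton_self _)))

/-- Composing iterates of `V^#`. -/
theorem vSharpPow_add (Vs : P →ₗ[W] Dieu.BC σ P) (l : ℕ) : ∀ (m : ℕ)
    (he : RingHom.comp (σ ^ (m + 1)) (σ ^ (l + 1)) = σ ^ (l + m + 1 + 1)) (x : P),
    Dieu.vSharpPow Vs (l + m + 1) x = Dieu.BC.lift (σ ^ (m + 1))
      ((Dieu.BC.castHom he).comp ((Dieu.BC.push (σ ^ (l + 1)) (σ ^ (m + 1))).comp (Dieu.vSharpPow Vs l)))
      (Dieu.vSharpPow Vs m x) := by
  intro m
  induction m with
  | zero =>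
    intro he x
    rw [Dieu.vSharpPow_succ_apply, Dieu.vSharpPow_zero_apply]
    induction Vs x using Dieu.BC.induction_on with
    | zero => simp
    | add a b ha hb => simp only [map_add, ha, hb]
    | tmul w y =>
      rw [Dieu.BC.castHom_tmul, Dieu.BC.map_tmul, Dieu.BC.lift_tmul, Dieu.BC.lift_tmul, map_smul]
      congr 1
  | succ m ih =>
    intro he x
    have he' : RingHom.comp (σ ^ (m + 1)) (σ ^ (l + 1)) = σ ^ (l + m + 1 + 1) := by
      rw [show l + m + 1 + 1 = (m + 1) + (l + 1) by ring, pow_add _ (m + 1) (l + 1)]; rfl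
    change Dieu.vSharpPow Vs ((l + m + 1) + 1) x = _
    rw [Dieu.vSharpPow_succ_apply, Dieu.vSharpPow_succ_apply]
    induction Vs x using Dieu.BC.induction_on with
    | zero => simp
    | add a b ha hb => simp only [map_add, ha, hb]
    | tmul w y =>
      rw [Dieu.BC.map_tmul, Dieu.BC.map_tmul, Dieu.BC.lift_tmul, Dieu.BC.lift_tmul, map_smul, map_smul, map_smul,
        ih he']
      congr 1
      generalize Dieu.vSharpPow Vs m y = v
      induction v using Dieu.BC.induction_on with
      | zero => simp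
      | add a b ha hb => simp only [map_add, ha, hb]
      | tmul u z =>
        simp only [Dieu.BC.lift_tmul, Dieu.BC.push_tmul, Dieu.BC.castHom_tmul, map_smul, map_smulₛₗ,
          LinearMap.comp_apply]
        congr 1
        generalize Dieu.vSharpPow Vs l z = v2
        induction v2 using Dieu.BC.induction_on with
        | zero => simp
        | add a b ha hb => simp only [map_add, ha, hb]
        | tmul a b =>
          simp only [Dieu.BC.push_tmul, Dieu.BC.castHom_tmul]
          congr 1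
          rw [pow_succ' _ (m + 1)]
          rfl

theorem vSharpPow_add_mem (Vs : P →ₗ[W] Dieu.BC σ P) {J K : Ideal W}
    (hJ : ∀ k, ∀ t ∈ J, (σ ^ k) t ∈ J) (m l : ℕ)
    (hm : ∀ y, Dieu.vSharpPow Vs m y ∈ K • (⊤ : Submodule W (Dieu.BC (σ ^ (m + 1)) P)))
    (hl : ∀ y, Dieu.vSharpPow Vs l y ∈ J • (⊤ : Submodule W (Dieu.BC (σ ^ (l + 1)) P))) (x : P) :
    Dieu.vSharpPow Vs (l + m + 1) x ∈ (K * J) • (⊤ : Submodule W (Dieu.BC (σ ^ (l + m + 1 + 1)) P)) := by
  have he : RingHom.comp (σ ^ (m + 1)) (σ ^ (l + 1)) = σ ^ (l + m + 1 + 1) := by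
    rw [show l + m + 1 + 1 = (m + 1) + (l + 1) by ring, pow_add _ (m + 1) (l + 1)]; rfl
  rw [vSharpPow_add Vs l m he x]
  set Γ := Dieu.BC.lift (σ ^ (m + 1))
    ((Dieu.BC.castHom he).comp ((Dieu.BC.push (σ ^ (l + 1)) (σ ^ (m + 1))).comp (Dieu.vSharpPow Vs l))) with hΓ
  have hΓJ : ∀ z, Γ z ∈ J • (⊤ : Submodule W (Dieu.BC (σ ^ (l + m + 1 + 1)) P)) := by
    intro z
    induction z using Dieu.BC.induction_on with
    | zero => rw [map_zero]; exact Submodule.zero_mem _
    | add a b ha hb => rw [map_add]; exact Submodule.add_mem _ ha hb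
    | tmul w y =>
      rw [hΓ, Dieu.BC.lift_tmul]
      refine Submodule.smul_mem _ _ ?_
      show (Dieu.BC.castHom he) ((Dieu.BC.push _ _) (Dieu.vSharpPow Vs l y)) ∈ _
      refine Submodule.smul_induction_on (hl y) (fun t ht v _ => ?_) (fun a b ha hb => ?_)
      · rw [map_smulₛₗ, map_smul]
        exact Submodule.smul_mem_smul (hJ _ t ht) Submodule.mem_top
      · simp only [map_add]; exact Submodule.add_mem _ ha hb
  refine Submodule.smul_induction_on (hm x) (fun t ht v _ => ?_) (fun a b ha hb => ?_)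
  · rw [map_smul, Submodule.mul_smul]
    exact Submodule.smul_mem_smul ht (hΓJ v)
  · rw [map_add]; exact Submodule.add_mem _ ha hb

/-- The nilpotence condition implies nilpotence modulo every truncation. -/
theorem exists_vSharpPow_mem_ker_truncate (h : IsNilpotent (p : R)) (Vs : P →ₗ[W] Dieu.BC σ P)
    (hnil : Dieu.IsVNilpotent Vs) (n : ℕ) :
    ∃ N : ℕ, ∀ x : P, Dieu.vSharpPow Vs N x ∈
      (RingHom.ker (WittVector.truncate (p := p) (R := R) n)) • (⊤ : Submodule W (Dieu.BC (σ ^ (N + 1)) P)) := by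
  obtain ⟨m, hm⟩ := hnil
  obtain ⟨s, hs⟩ := h
  set J := IV p R ⊔ Ideal.span {(p : W)} with hJ
  have hJ2 : J * J ≤ Ideal.span {(p : W)} := by
    refine Ideal.mul_le.2 fun x hx y hy => ?_
    obtain ⟨a, ha, a', ha', rfl⟩ := Submodule.mem_sup.1 hx
    obtain ⟨b, hb, b', hb', rfl⟩ := Submodule.mem_sup.1 hy
    rw [show (a + a') * (b + b') = a * b + (a' * (b + b') + a * b') by ring]
    refine Ideal.add_mem _ ?_ (Ideal.add_mem _ (Ideal.mul_mem_right _ _ ha') (Ideal.mul_mem_left _ _ hb'))
    rw [← verschiebung_vInv (mem_IV.1 ha), ← verschiebung_vInv (mem_IV.1 hb),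
      Groth.Agent.CAlgH.WittAdic.verschiebung_mul_verschiebung]
    exact Ideal.mul_mem_right _ _ (Ideal.mem_span_singleton_self _)
  have key : ∀ k, ∃ N, ∀ x, Dieu.vSharpPow Vs N x ∈ J ^ (k + 1) • (⊤ : Submodule W (Dieu.BC (σ ^ (N + 1)) P)) := by
    intro k
    induction k with
    | zero => exact ⟨m, fun x => by rw [zero_add, pow_one]; exact hm x⟩
    | succ k ih =>
      obtain ⟨N, hN⟩ := ih
      refine ⟨m + N + 1, fun x => ?_⟩
      rw [pow_succ J]
      exact vSharpPow_add_mem Vs (fun k t ht => frobenius_pow_mem_J k ht) N m hN hm x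
  obtain ⟨N, hN⟩ := key (2 * (n * s))
  refine ⟨N, fun x => Submodule.smul_mono ?_ le_rfl (hN x)⟩
  refine (Ideal.pow_le_pow_right (Nat.le_succ _)).trans ?_
  rw [pow_mul, pow_two]
  refine (Ideal.pow_right_mono hJ2 _).trans ?_
  rw [Ideal.span_singleton_pow, Ideal.span_le, Set.singleton_subset_iff, SetLike.mem_coe, WittVector.mem_ker_truncate]
  intro i hi
  simpa using Groth.Agent.CAlgH.WittAdic.coeff_p_pow_mul hs n 1 i hi

end Groth.Agent.DispLib
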