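import Groth.Agent.DispLib.VSharp
import Groth.Agent.DispLib.Trunc

/-!
# The nilpotence condition in terms of matrices
-/

set_option autoImplicit false

noncomputable section

universe u v w

open WittVector
open W4c1extbt610 (IV Display3n)

namespace Groth.Agent.DispLib

variable {p : ℕ} [hp : Fact p.Prime] {R : Type u} [CommRing R]

/-- reduction `W(R) → R/p` -/
def rho (p : ℕ) [Fact p.Prime] (R : Type u) [CommRing R] : WittVector p R →+* R ⧸ Ideal.span {(p : R)} :=
  (Ideal.Quotient.mk _).comp constantCoeff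

theorem rho_eq_zero {x : WittVector p R} :
    rho p R x = 0 ↔ x ∈ IV p R ⊔ Ideal.span {(p : WittVector p R)} := by
  show Ideal.Quotient.mk _ (constantCoeff x) = 0 ↔ _
  rw [Ideal.Quotient.eq_zero_iff_mem, Ideal.mem_span_singleton']
  constructor
  · rintro ⟨a, ha⟩
    rw [show x = (x - teichmuller p a * (p : WittVector p R)) + teichmuller p a * (p : WittVector p R) by ring]
    refine Submodule.add_mem_sup (mem_IV.2 ?_) (Ideal.mul_mem_left _ _ (Ideal.mem_span_singleton_self _))
    show constantCoeff (x - teichmuller p a * (p : WittVector p R)) = 0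
    rw [map_sub, map_mul, map_natCast, show constantCoeff (teichmuller p a) = a from teichmuller_coeff_zero p a, ha,
      sub_self]
  · intro hx
    obtain ⟨i, hi, j, hj, rfl⟩ := Submodule.mem_sup.1 hx
    obtain ⟨t, rfl⟩ := Ideal.mem_span_singleton'.1 hj
    refine ⟨constantCoeff t, ?_⟩
    rw [map_add, map_mul, map_natCast, show constantCoeff i = 0 from mem_IV.1 hi, zero_add]

theorem rho_frobenius (x : WittVector p R) : rho p R (frobenius x) = rho p R x ^ p := by
  show Ideal.Quotient.mk _ (constantCoeff (frobenius x)) = Ideal.Quotient.mk _ (constantCoeff x) ^ p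
  have h0 : constantCoeff (frobenius x) = x.coeff 0 ^ p + p * x.coeff 1 := by
    have := ghostComponent_frobenius 0 x
    simpa [ghostComponent_apply, wittPolynomial_one, wittPolynomial_zero, add_comm] using this
  rw [← map_pow, Ideal.Quotient.eq, h0, show constantCoeff x = x.coeff 0 from rfl, add_sub_cancel_left]
  exact Ideal.mul_mem_right _ _ (Ideal.mem_span_singleton_self _)

/-- `x ↦ x ^ p` on `R/p`. -/
def phi (p : ℕ) [Fact p.Prime] (R : Type u) [CommRing R] :
    R ⧸ Ideal.span {(p : R)} →+* R ⧸ Ideal.span {(p : R)} :=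
  RingHom.liftOfSurjective (rho p R)
    (Ideal.Quotient.mk_surjective.comp fun a => ⟨teichmuller p a, teichmuller_coeff_zero p a⟩)
    ⟨(rho p R).comp frobenius, fun x hx => by
      rw [RingHom.mem_ker, RingHom.comp_apply, rho_frobenius, RingHom.mem_ker.1 hx,
        zero_pow (Fact.out : p.Prime).ne_zero]⟩

theorem phi_rho (x : WittVector p R) : phi p R (rho p R x) = rho p R (frobenius x) :=
  RingHom.liftOfRightInverse_comp_apply _ _ _ _ x

theorem phi_apply (x : R ⧸ Ideal.span {(p : R)}) : phi p R x = x ^ p := by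
  obtain ⟨a, rfl⟩ := Ideal.Quotient.mk_surjective x
  rw [show Ideal.Quotient.mk _ a = rho p R (teichmuller p a) from congrArg _ (teichmuller_coeff_zero p a).symm,
    phi_rho, rho_frobenius]

variable {P : Type v} [AddCommGroup P] [Module (WittVector p R) P]

/-- coordinates on twisted modules -/
def twistCoord (n : ℕ) (c : P →ₗ[WittVector p R] WittVector p R) :
    Dieu.BC ((WittVector.frobenius : WittVector p R →+* WittVector p R) ^ n) P →ₗ[WittVector p R] WittVector p R :=
  Dieu.BC.lift _ ((Dieu.semilinearOfRingHom ((WittVector.frobenius : WittVector p R →+* WittVector p R) ^ n)).comp c)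

theorem twistCoord_tmul (n : ℕ) (c : P →ₗ[WittVector p R] WittVector p R) (u : WittVector p R) (y : P) :
    twistCoord n c (Dieu.BC.tmul _ u y) =
      u * ((WittVector.frobenius : WittVector p R →+* WittVector p R) ^ n) (c y) := by
  rw [twistCoord, Dieu.BC.lift_tmul, smul_eq_mul, LinearMap.comp_apply, Dieu.semilinearOfRingHom_apply]

theorem twistCoord_push (n : ℕ) (c : P →ₗ[WittVector p R] WittVector p R)
    (z : Dieu.BC ((WittVector.frobenius : WittVector p R →+* WittVector p R) ^ (n + 1)) P) :
    twistCoord (n + 1 + 1) c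
        (Dieu.BC.castHom (Dieu.comp_pow_eq_pow_succ (WittVector.frobenius : WittVector p R →+* WittVector p R) (n + 1))
          (Dieu.BC.push _ (WittVector.frobenius : WittVector p R →+* WittVector p R) z)) =
      WittVector.frobenius (twistCoord (n + 1) c z) := by
  induction z using Dieu.BC.induction_on with
  | zero => simp only [map_zero]
  | add a b ha hb => rw [map_add, map_add, map_add, map_add, map_add, ha, hb]
  | tmul u y =>
    rw [Dieu.BC.push_tmul, Dieu.BC.castHom_tmul, twistCoord_tmul, twistCoord_tmul, map_mul, pow_succ' _ (n + 1)]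
    rfl

theorem isDisplay_iff_matrix (hpn : IsNilpotent (p : R)) (D : Display3n p R P)
    (L T : Submodule (WittVector p R) P) (hLT : IsCompl L T) (hLQ : L ≤ D.Q)
    (ιT ιL : Type w) [Fintype ιT] [Fintype ιL] [DecidableEq ιT] [DecidableEq ιL]
    (bT : Module.Basis ιT (WittVector p R) T) (bL : Module.Basis ιL (WittVector p R) L)
    (α β : Matrix (ιT ⊕ ιL) (ιT ⊕ ιL) (WittVector p R)) (hαβ : α * β = 1)
    (hF : ∀ j : ιT, D.F (bT j : P) =
      Finset.univ.sum fun i : ιT ⊕ ιL => α i (Sum.inl j) • Sum.elim (fun a : ιT => (bT a : P)) (fun a : ιL => (bL a : P)) i)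
    (hV : ∀ k : ιL, D.Vinv ⟨(bL k : P), hLQ (bL k).2⟩ =
      Finset.univ.sum fun i : ιT ⊕ ιL => α i (Sum.inr k) • Sum.elim (fun a : ιT => (bT a : P)) (fun a : ιL => (bL a : P)) i) :
    Dieu.IsDisplay D ↔
      ∃ N : ℕ, 0 < N ∧
        (((List.range N).reverse.map fun i : ℕ =>
            (Matrix.of fun k l : ιL =>
                Ideal.Quotient.mk (Ideal.span {(p : R)}) (WittVector.constantCoeff (β (Sum.inr k) (Sum.inr l)))).map
              fun x : R ⧸ Ideal.span {(p : R)} => x ^ p ^ i).prod
          = 0) := by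
  classical
  obtain ⟨Vs, hVs, huniq⟩ := existsUnique_vSharp D hpn
  let b : Module.Basis (ιT ⊕ ιL) (WittVector p R) P :=
    (bT.prod bL).map (Submodule.prodEquivOfIsCompl T L hLT.symm)
  let E : ιT ⊕ ιL → P := Sum.elim (fun a : ιT => (bT a : P)) (fun a : ιL => (bL a : P))
  have hbE : ∀ i, b i = E i := by
    rintro (a | a) <;> simp [b, E, Module.Basis.prod_apply]
  let G : ιT ⊕ ιL → P := Sum.elim (fun j : ιT => D.F (bT j : P)) (fun k : ιL => D.Vinv ⟨(bL k : P), hLQ (bL k).2⟩)
  let d : ιT ⊕ ιL → WittVector p R := Sum.elim (fun _ => (p : WittVector p R)) (fun _ => 1)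
  have hG : ∀ j, G j = ∑ i, α i j • E i := by
    rintro (a | a)
    · exact hF a
    · exact hV a
  have hVG : ∀ j, Vs (G j) = d j • Dieu.BC.tmul (WittVector.frobenius : WittVector p R →+* WittVector p R) 1 (E j) := by
    rintro (a | a)
    · show Vs (D.F _) = _
      rw [← one_smul (WittVector p R) (D.F _), hVs.app_smul_F]; rfl
    · show Vs (D.Vinv _) = _
      rw [← one_smul (WittVector p R) (D.Vinv _), hVs.app_smul_Vinv]
      exact (one_smul _ _).symm
  have hEG : ∀ m, E m = ∑ j, β j m • G j := by
    intro m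
    simp only [hG, Finset.smul_sum, smul_smul]
    rw [Finset.sum_comm]
    simp only [← Finset.sum_smul]
    have : ∀ i, ∑ j, β j m * α i j = (α * β) i m := fun i => by
      rw [Matrix.mul_apply]; exact Finset.sum_congr rfl fun j _ => mul_comm _ _
    simp [this, hαβ, Matrix.one_apply, ite_smul]
  let A : Matrix (ιT ⊕ ιL) (ιT ⊕ ιL) (WittVector p R) := Matrix.of fun j m => β j m * d j
  let cw : (n : ℕ) → (ιT ⊕ ιL) → (Dieu.BC ((WittVector.frobenius : WittVector p R →+* WittVector p R) ^ (n + 1)) P →ₗ[WittVector p R] WittVector p R) := fun n i =>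
    twistCoord (n + 1) (b.coord i)
  let C : ℕ → Matrix (ιT ⊕ ιL) (ιT ⊕ ιL) (WittVector p R) := fun n =>
    Matrix.of fun i m => cw n i (Dieu.vSharpPow Vs n (E m))
  have hVsE : ∀ m, Vs (E m) = ∑ j, A j m • Dieu.BC.tmul (WittVector.frobenius : WittVector p R →+* WittVector p R) 1 (E j) := by
    intro m
    rw [hEG m, map_sum]
    exact Finset.sum_congr rfl fun j _ => by rw [map_smul, hVG, smul_smul]; rfl
  have hcoord : ∀ i j, b.coord i (E j) = (1 : Matrix (ιT ⊕ ιL) (ιT ⊕ ιL) (WittVector p R)) i j := by
    intro i j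
    rw [← hbE, Module.Basis.coord_apply, Module.Basis.repr_self, Finsupp.single_apply, Matrix.one_apply]
    simp [eq_comm]
  have hC0 : C 0 = A := by
    refine Matrix.ext fun i m => ?_
    show cw 0 i (Dieu.vSharpPow Vs 0 (E m)) = A i m
    rw [Dieu.vSharpPow_zero_apply, hVsE, map_sum, map_sum]
    rw [show cw 0 i = twistCoord 1 (b.coord i) from rfl, Finset.sum_eq_single i]
    · rw [map_smul, map_smul, Dieu.BC.castHom_tmul]
      simp only [cw, twistCoord_tmul, hcoord, Matrix.one_apply_eq, map_one, smul_eq_mul, mul_one]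
    · intro j _ hj
      rw [map_smul, map_smul, Dieu.BC.castHom_tmul]
      simp only [cw, twistCoord_tmul, hcoord, Matrix.one_apply_ne (Ne.symm hj), map_zero, smul_eq_mul, mul_zero]
    · exact fun h => (h (Finset.mem_univ i)).elim
  have hCS : ∀ n, C (n + 1) = (C n).map (WittVector.frobenius : WittVector p R →+* WittVector p R) * A := by
    intro n
    refine Matrix.ext fun i m => ?_
    show cw (n + 1) i (Dieu.vSharpPow Vs (n + 1) (E m)) = _
    rw [Dieu.vSharpPow_succ_apply, hVsE, Matrix.mul_apply]
    simp only [map_sum, map_smul, Dieu.BC.map_tmul, Dieu.BC.lift_tmul, one_smul, smul_eq_mul, Matrix.map_apply]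
    refine Finset.sum_congr rfl fun j _ => ?_
    rw [mul_comm]
    congr 1
    exact twistCoord_push n (b.coord i) _
  -- reduction modulo `I + p W`
  let Cb : ℕ → Matrix (ιT ⊕ ιL) (ιT ⊕ ιL) (R ⧸ Ideal.span {(p : R)}) := fun n => (C n).map (rho p R)
  let Ab := A.map (rho p R)
  have hCb : ∀ n, Cb (n + 1) = (Cb n).map (phi p R) * Ab := by
    intro n
    simp only [Cb, hCS, Matrix.map_mul, Matrix.map_map, Ab]
    congr 2
    funext x
    exact (phi_rho x).symm
  have hnil : Dieu.IsVNilpotent Vs ↔ ∃ n, Cb n = 0 := by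
    refine exists_congr fun n => ?_
    constructor
    · intro h
      refine Matrix.ext fun i m => ?_
      exact rho_eq_zero.2 (coord_mem (cw n i) (h (E m)))
    · intro h x
      have hexp : ∀ z : Dieu.BC ((WittVector.frobenius : WittVector p R →+* WittVector p R) ^ (n + 1)) P, z = ∑ i, cw n i z • Dieu.BC.tmul ((WittVector.frobenius : WittVector p R →+* WittVector p R) ^ (n + 1)) 1 (E i) := by
        intro z
        induction z using Dieu.BC.induction_on with
        | zero => simp only [map_zero, zero_smul, Finset.sum_const_zero]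
        | add a b ha hb => simp only [map_add, add_smul, Finset.sum_add_distrib, ← ha, ← hb]
        | tmul w y =>
          simp only [cw, twistCoord_tmul, mul_smul, ← Finset.smul_sum]
          rw [Dieu.BC.tmul_eq_smul_tmul_one]
          congr 1
          change Dieu.BC.ι _ P y = ∑ i, ((WittVector.frobenius : WittVector p R →+* WittVector p R) ^ (n + 1)) (b.coord i y) • Dieu.BC.ι _ P (E i)
          conv_lhs => rw [← b.sum_repr y, map_sum]
          simp only [map_smulₛₗ, Module.Basis.coord_apply, hbE]
      rw [← b.sum_repr x, map_sum]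
      refine Submodule.sum_mem _ fun m _ => ?_
      rw [map_smul, hbE]
      refine Submodule.smul_mem _ _ ?_
      rw [hexp (Dieu.vSharpPow Vs n (E m))]
      exact Submodule.sum_mem _ fun i _ => Submodule.smul_mem_smul (rho_eq_zero.1 (congrFun (congrFun h i) m))
        Submodule.mem_top
  have hAT : ∀ a m, Ab (Sum.inl a) m = 0 := fun a m => by
    show rho p R (β _ m * (p : WittVector p R)) = 0
    exact rho_eq_zero.2 (Submodule.mem_sup_right (Ideal.mul_mem_left _ _ (Ideal.mem_span_singleton_self _)))
  have hrow : ∀ n a m, Cb n (Sum.inl a) m = 0 := by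
    intro n
    induction n with
    | zero => intro a m; simp only [Cb, hC0]; exact hAT a m
    | succ n ih => intro a m; rw [hCb, Matrix.mul_apply]; exact Finset.sum_eq_zero fun j _ => by simp [ih]
  let B : Matrix ιL ιL (R ⧸ Ideal.span {(p : R)}) := Matrix.of fun k l : ιL =>
    Ideal.Quotient.mk (Ideal.span {(p : R)}) (WittVector.constantCoeff (β (Sum.inr k) (Sum.inr l)))
  let Pr : ℕ → Matrix ιL ιL (R ⧸ Ideal.span {(p : R)}) := fun N =>
    ((List.range N).reverse.map fun i : ℕ => B.map fun x : R ⧸ Ideal.span {(p : R)} => x ^ p ^ i).prod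
  have hPr0 : Pr 1 = B := by simp [Pr, List.range_succ]
  have hPr : ∀ N, Pr (N + 1) = (Pr N).map (phi p R) * B := by
    intro N
    simp only [Pr, List.range_succ_eq_map, List.reverse_cons, List.map_append, List.map_cons, List.map_nil,
      List.prod_append, List.prod_cons, List.prod_nil, mul_one, pow_zero, pow_one]
    congr 1
    · rw [← RingHom.mapMatrix_apply, map_list_prod]
      congr 1
      simp only [← List.map_reverse, List.map_map]
      refine List.map_congr_left fun i _ => ?_
      ext k l
      simp [phi_apply, ← pow_mul, pow_succ]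
  have hblock : ∀ n k l, Cb n (Sum.inr k) (Sum.inr l) = Pr (n + 1) k l := by
    intro n
    induction n with
    | zero =>
      intro k l
      rw [hPr0]
      show rho p R (C 0 (Sum.inr k) (Sum.inr l)) = _
      rw [hC0]
      show rho p R (β _ _ * 1) = _
      rw [mul_one]; rfl
    | succ n ih =>
      intro k l
      rw [hCb, hPr, Matrix.mul_apply, Matrix.mul_apply, Fintype.sum_sum_type,
        Finset.sum_eq_zero (fun a _ => by rw [hAT, mul_zero]), zero_add]
      refine Finset.sum_congr rfl fun j _ => ?_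
      rw [Matrix.map_apply, Matrix.map_apply, ih]
      congr 1
      show rho p R (β _ _ * 1) = _
      rw [mul_one]; rfl
  have hfinal : Dieu.IsVNilpotent Vs ↔ ∃ N, 0 < N ∧ Pr N = 0 := by
    rw [hnil]
    constructor
    · rintro ⟨n, hn⟩
      exact ⟨n + 1, n.succ_pos, Matrix.ext fun k l => by rw [← hblock, hn]; rfl⟩
    · rintro ⟨N, hN, h⟩
      obtain ⟨n, rfl⟩ := Nat.exists_eq_succ_of_ne_zero (Nat.pos_iff_ne_zero.1 hN)
      refine ⟨n + 1, Matrix.ext fun i m => ?_⟩
      rw [hCb, Matrix.mul_apply]
      refine Finset.sum_eq_zero fun j _ => ?_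
      rcases j with a | l
      · rw [hAT, mul_zero]
      · rcases i with a | k
        · simp [hrow]
        · simp [hblock, h]
  show Dieu.IsDisplay D ↔ ∃ N, 0 < N ∧ Pr N = 0
  rw [← hfinal]
  refine ⟨fun ⟨V', hV', hn⟩ => ?_, fun hn => ⟨Vs, hVs, hn⟩⟩
  rwa [← huniq V' hV']

end Groth.Agent.DispLib
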