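import Groth.Agent.DispLib.VSharp
import Groth.Agent.DispLib.BaseChange

/-!
# The nilpotence condition under base change
-/

set_option autoImplicit false

noncomputable section

universe u v

open WittVector
open W4c1extbt610 (IV Display3n)

namespace Groth.Agent.DispLib

variable {p : ℕ} [hp : Fact p.Prime] {S R : Type u} [CommRing S] [CommRing R]
variable {P : Type v} [AddCommGroup P] [Module (WittVector p S) P]

theorem isNilpotent_natCast_map (f : S →+* R) (h : IsNilpotent (p : S)) : IsNilpotent (p : R) := by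
  simpa using h.map f

theorem isDisplay_baseChange (h : IsNilpotent (p : S)) (f : S →+* R) (D : Display3n p S P) (hD : Dieu.IsDisplay D)
    (DR : Display3n p R (Dieu.BC (WittVector.map f : WittVector p S →+* WittVector p R) P))
    (hDR : Dieu.IsDispBaseChange f D DR) : Dieu.IsDisplay DR := by
  obtain ⟨VR, hVR, -⟩ := existsUnique_vSharp DR (isNilpotent_natCast_map f h)
  obtain ⟨Vs, hVs, m, hnil⟩ := hD
  refine ⟨VR, hVR, m, ?_⟩
  let g : WittVector p S →+* WittVector p R := WittVector.map f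
  let s : WittVector p S →+* WittVector p S := WittVector.frobenius
  let σ : WittVector p R →+* WittVector p R := WittVector.frobenius
  have hgs : ∀ k t, (σ ^ k) (g t) = g ((s ^ k) t) := by
    intro k
    induction k with
    | zero => intro t; rfl
    | succ k ih =>
      intro t
      rw [pow_succ', pow_succ']
      show σ ((σ ^ k) (g t)) = g (s ((s ^ k) t))
      rw [ih]
      exact (map_frobenius' f _).symm
  have hθ : ∀ (a : WittVector p S →+* WittVector p S) (a' : WittVector p R →+* WittVector p R),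
      (∀ t, a' (g t) = g (a t)) → ∃ θ : Dieu.BC a P →ₛₗ[g] Dieu.BC a' (Dieu.BC g P),
        ∀ w x, θ (Dieu.BC.tmul a w x) = Dieu.BC.tmul a' (g w) (Dieu.BC.tmul g 1 x) := by
    intro a a' haa'
    let ψ : P →ₛₗ[g.comp a] Dieu.BC a' (Dieu.BC g P) :=
      { toFun := fun x => Dieu.BC.tmul a' 1 (Dieu.BC.tmul g 1 x)
        map_add' := fun x y => by rw [Dieu.BC.tmul_add, Dieu.BC.tmul_add]
        map_smul' := fun t x => by
          rw [← Dieu.BC.tmul_apply_eq g t x, Dieu.BC.tmul_eq_smul_tmul_one g (g t), ← Dieu.BC.tmul_apply_eq a' (g t),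
            haa', Dieu.BC.tmul_eq_smul_tmul_one a' (g (a t))]
          rfl }
    exact ⟨(Dieu.BC.lift (g.comp a) ψ).comp (Dieu.BC.push a g), fun w x => by simp [ψ]⟩
  have key : ∀ n, ∃ θ : Dieu.BC (s ^ (n + 1)) P →ₛₗ[g] Dieu.BC (σ ^ (n + 1)) (Dieu.BC g P),
      (∀ w x, θ (Dieu.BC.tmul (s ^ (n + 1)) w x) = Dieu.BC.tmul (σ ^ (n + 1)) (g w) (Dieu.BC.tmul g 1 x)) ∧
      ∀ x, Dieu.vSharpPow VR n (Dieu.BC.tmul g 1 x) = θ (Dieu.vSharpPow Vs n x) := by
    obtain ⟨θ1, hθ1⟩ := hθ s σ fun t => (map_frobenius' f t).symm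
    have hbase : ∀ x, VR (Dieu.BC.tmul g 1 x) = θ1 (Vs x) := by
      have : VR.comp (Dieu.BC.ι g P) = θ1.comp Vs := ext_Vinv D fun y => by
        have hy : Dieu.BC.tmul g 1 (y : P) ∈ DR.Q := by
          rw [hDR.Q_eq, LinearMap.mem_ker, Dieu.bcQuotMap_tmul, Submodule.mkQ_apply,
            (Submodule.Quotient.mk_eq_zero _).2 y.2, Dieu.BC.tmul_zero]
        have e1 : DR.Vinv ⟨_, hy⟩ = Dieu.BC.tmul g 1 (D.Vinv y) := by
          rw [hDR.Vinv_tmul 1 y hy, map_one]
        rw [LinearMap.comp_apply, LinearMap.comp_apply, Dieu.BC.ι_apply, ← e1,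
          ← one_smul (WittVector p R) (DR.Vinv _), hVR.app_smul_Vinv, ← one_smul (WittVector p S) (D.Vinv y),
          hVs.app_smul_Vinv, hθ1, map_one]
      exact LinearMap.congr_fun this
    intro n
    induction n with
    | zero =>
      obtain ⟨θ, hθ'⟩ := hθ (s ^ 1) (σ ^ 1) (hgs 1)
      refine ⟨θ, hθ', fun x => ?_⟩
      rw [Dieu.vSharpPow_zero_apply, Dieu.vSharpPow_zero_apply, hbase]
      induction Vs x using Dieu.BC.induction_on with
      | zero => simp
      | add a b ha hb => simp only [map_add, ha, hb]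
      | tmul w y => rw [hθ1, Dieu.BC.castHom_tmul, Dieu.BC.castHom_tmul, hθ']
    | succ n ih =>
      obtain ⟨θn, hθn, hn⟩ := ih
      obtain ⟨θ, hθ'⟩ := hθ (s ^ (n + 1 + 1)) (σ ^ (n + 1 + 1)) (hgs _)
      refine ⟨θ, hθ', fun x => ?_⟩
      rw [Dieu.vSharpPow_succ_apply, Dieu.vSharpPow_succ_apply, hbase]
      induction Vs x using Dieu.BC.induction_on with
      | zero => simp
      | add a b ha hb => simp only [map_add, ha, hb]
      | tmul w y =>
        rw [hθ1, Dieu.BC.map_tmul, Dieu.BC.map_tmul, Dieu.BC.lift_tmul, Dieu.BC.lift_tmul, map_smul, map_smul,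
          map_smulₛₗ, hn]
        congr 1
        induction Dieu.vSharpPow Vs n y using Dieu.BC.induction_on with
        | zero => simp
        | add a b ha hb => simp only [map_add, ha, hb]
        | tmul u z =>
          rw [hθn, Dieu.BC.push_tmul, Dieu.BC.push_tmul, Dieu.BC.castHom_tmul, Dieu.BC.castHom_tmul, hθ']
          exact congrArg (fun t => Dieu.BC.tmul _ t _) (map_frobenius' f u).symm
  obtain ⟨θ, -, hθm⟩ := key m
  have hJ : ∀ t ∈ IV p S ⊔ Ideal.span {(p : WittVector p S)}, g t ∈ IV p R ⊔ Ideal.span {(p : WittVector p R)} := by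
    intro t ht
    obtain ⟨a, ha, b, hb, rfl⟩ := Submodule.mem_sup.1 ht
    obtain ⟨c, rfl⟩ := Ideal.mem_span_singleton'.1 hb
    rw [map_add, map_mul, map_natCast]
    refine Submodule.add_mem_sup (mem_IV.2 ?_) (Ideal.mul_mem_left _ _ (Ideal.mem_span_singleton_self _))
    rw [map_coeff, mem_IV.1 ha, map_zero]
  intro z
  induction z using Dieu.BC.induction_on with
  | zero => rw [map_zero]; exact Submodule.zero_mem _
  | add a b ha hb => rw [map_add]; exact Submodule.add_mem _ ha hb
  | tmul w x =>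
    rw [Dieu.BC.tmul_eq_smul_tmul_one, map_smul, hθm]
    refine Submodule.smul_mem _ _ ?_
    refine Submodule.smul_induction_on (hnil x) (fun t ht v _ => ?_) (fun a b ha hb => ?_)
    · rw [map_smulₛₗ]; exact Submodule.smul_mem_smul (hJ t ht) Submodule.mem_top
    · rw [map_add]; exact Submodule.add_mem _ ha hb

end Groth.Agent.DispLib
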