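import Groth.Agent.DispLib.Basic
import Groth.Prelude.Def_Disp2

/-!
# Displays and Dieudonné modules over a perfect ring
-/

set_option autoImplicit false

noncomputable section

universe u v

open WittVector
open W4c1extbt610 (IV Display3n)

namespace Groth.Agent.DispLib

variable {p : ℕ} [hp : Fact p.Prime] {k : Type u} [CommRing k] [CharP k p] [PerfectRing k p]


theorem frobenius_frobeniusEquiv_symm (x : (WittVector p k)) : (WittVector.frobenius : WittVector p k →+* WittVector p k) (((WittVector.frobeniusEquiv p k).symm : WittVector p k →+* WittVector p k) x) = x :=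
  (WittVector.frobeniusEquiv p k).apply_symm_apply x

theorem frobeniusEquiv_symm_frobenius (x : (WittVector p k)) : ((WittVector.frobeniusEquiv p k).symm : WittVector p k →+* WittVector p k) ((WittVector.frobenius : WittVector p k →+* WittVector p k) x) = x :=
  (WittVector.frobeniusEquiv p k).symm_apply_apply x

theorem verschiebung_eq_mul (x : (WittVector p k)) : verschiebung x = ((WittVector.frobeniusEquiv p k).symm : WittVector p k →+* WittVector p k) x * (p : (WittVector p k)) := by
  conv_lhs => rw [← frobenius_frobeniusEquiv_symm x]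
  exact verschiebung_frobenius _

theorem natCast_mul_eq_zero {x : (WittVector p k)} (h : (p : (WittVector p k)) * x = 0) : x = 0 := by
  rw [mul_comm] at h
  ext n
  have := congrArg (fun w => w.coeff (n + 1)) h
  simp only [mul_charP_coeff_succ, zero_coeff] at this
  refine (PerfectRing.bijective_frobenius (R := k) (p := p)).1 ?_
  show x.coeff n ^ p = (0 : WittVector p k).coeff n ^ p
  rw [zero_coeff, zero_pow hp.out.ne_zero]
  exact this

theorem IV_eq_span_natCast : IV p k = Ideal.span {(p : (WittVector p k))} := by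
  refine le_antisymm (fun x hx => ?_) ?_
  · rw [← verschiebung_vInv (mem_IV.1 hx), verschiebung_eq_mul]
    exact Ideal.mul_mem_left _ _ (Ideal.mem_span_singleton_self _)
  · rw [Ideal.span_le, Set.singleton_subset_iff, SetLike.mem_coe, mem_IV]
    exact map_natCast (constantCoeff : (WittVector p k) →+* k) p |>.trans (CharP.cast_eq_zero k p)

theorem natCast_smul_eq_zero {M : Type v} [AddCommGroup M] [Module (WittVector p k) M] [Module.Finite (WittVector p k) M] [Module.Projective (WittVector p k) M]
    {m : M} (h : (p : (WittVector p k)) • m = 0) : m = 0 := by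
  obtain ⟨r, c, e, hce⟩ := exists_dualBasis (WittVector p k) M
  rw [hce m]
  refine Finset.sum_eq_zero fun i _ => ?_
  rw [natCast_mul_eq_zero (p := p) (k := k) (x := c i m) (by rw [← smul_eq_mul, ← map_smul, h, map_zero]), zero_smul]

variable {M : Type v} [AddCommGroup M] [Module (WittVector p k) M]

/-- `V^#` of the display of a Dieudonné module: `m ↦ 1 ⊗ V m`. -/
def vSharpOf (Dm : Dieu.DieuMod p k M) : M →ₗ[(WittVector p k)] Dieu.BC (WittVector.frobenius : WittVector p k →+* WittVector p k) M where
  toFun m := Dieu.BC.tmul (WittVector.frobenius : WittVector p k →+* WittVector p k) 1 (Dm.V m)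
  map_add' m n := by rw [map_add, Dieu.BC.tmul_add]
  map_smul' w m := by
    rw [map_smulₛₗ, ← Dieu.BC.tmul_apply_eq, frobenius_frobeniusEquiv_symm, RingHom.id_apply,
      Dieu.BC.tmul_eq_smul_tmul_one (WittVector.frobenius : WittVector p k →+* WittVector p k) w]

theorem vSharpPow_vSharpOf (Dm : Dieu.DieuMod p k M) : ∀ (n : ℕ) (x : M),
    Dieu.vSharpPow (vSharpOf Dm) n x = Dieu.BC.tmul ((WittVector.frobenius : WittVector p k →+* WittVector p k) ^ (n + 1)) 1 ((⇑Dm.V)^[n + 1] x)
  | 0, x => by
    rw [Dieu.vSharpPow_zero_apply,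
      show vSharpOf Dm x = Dieu.BC.tmul (WittVector.frobenius : WittVector p k →+* WittVector p k) 1 (Dm.V x) from rfl,
      Dieu.BC.castHom_tmul]
    rfl
  | n + 1, x => by
    rw [Dieu.vSharpPow_succ_apply, show vSharpOf Dm x = Dieu.BC.tmul (WittVector.frobenius : WittVector p k →+* WittVector p k) 1 (Dm.V x) from rfl, Dieu.BC.map_tmul,
      Dieu.BC.lift_tmul, one_smul, vSharpPow_vSharpOf Dm n, Dieu.BC.push_tmul, Dieu.BC.castHom_tmul, map_one,
      ← Function.iterate_succ_apply]

theorem isDisplay_iff_vTopNilp [Module.Finite (WittVector p k) M] [Module.Projective (WittVector p k) M] (Dm : Dieu.DieuMod p k M)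
    (D : Display3n p k M) (hF : D.F = Dm.F) (hQ : ∀ x : M, x ∈ D.Q ↔ x ∈ Set.range Dm.V)
    (hV : ∀ (m : M) (h : Dm.V m ∈ D.Q), D.Vinv ⟨Dm.V m, h⟩ = m) :
    Dieu.IsDisplay D ↔ Dm.VTopNilp := by
  have hVinv : ∀ y : D.Q, Dm.V (D.Vinv y) = y := by
    intro y
    obtain ⟨m, hm⟩ := (hQ y).1 y.2
    rw [show y = ⟨Dm.V m, hm ▸ y.2⟩ from Subtype.ext hm.symm, hV]
  have hVs : Dieu.IsVSharp D (vSharpOf Dm) := by
    constructor
    · intro w x
      rw [map_smul, hF, show vSharpOf Dm (Dm.F x) = Dieu.BC.tmul (WittVector.frobenius : WittVector p k →+* WittVector p k) 1 (Dm.V (Dm.F x)) from rfl, Dm.V_F,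
        ← Dieu.BC.tmul_apply_eq, map_natCast, Dieu.BC.tmul_eq_smul_tmul_one (WittVector.frobenius : WittVector p k →+* WittVector p k) w,
        Dieu.BC.tmul_eq_smul_tmul_one (WittVector.frobenius : WittVector p k →+* WittVector p k) (p : (WittVector p k)), smul_comm]
    · intro w y
      rw [map_smul, show vSharpOf Dm (D.Vinv y) = Dieu.BC.tmul (WittVector.frobenius : WittVector p k →+* WittVector p k) 1 (Dm.V (D.Vinv y)) from rfl, hVinv,
        ← Dieu.BC.tmul_eq_smul_tmul_one]
  have hJ : IV p k ⊔ Ideal.span {(p : (WittVector p k))} = Ideal.span {(p : (WittVector p k))} := by rw [IV_eq_span_natCast, sup_idem]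
  constructor
  · rintro ⟨Vs, hVs', n, hn⟩
    obtain rfl : Vs = vSharpOf Dm := ext_Vinv D fun y => by
      rw [← one_smul (WittVector p k) (D.Vinv y), hVs'.app_smul_Vinv, hVs.app_smul_Vinv]
    obtain ⟨r, c, e, hce⟩ := exists_dualBasis (WittVector p k) M
    have h1 : ∀ x, (⇑Dm.V)^[n + 1] x ∈ Ideal.span {(p : (WittVector p k))} • (⊤ : Submodule (WittVector p k) M) := by
      intro x
      have h := hn x
      rw [hJ, vSharpPow_vSharpOf] at h
      rw [hce ((⇑Dm.V)^[n + 1] x)]
      refine Submodule.sum_mem _ fun i _ => Submodule.smul_mem_smul ?_ Submodule.mem_top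
      have h2 : ((WittVector.frobenius : WittVector p k →+* WittVector p k) ^ (n + 1)) (c i ((⇑Dm.V)^[n + 1] x)) ∈ Ideal.span {(p : (WittVector p k))} := by
        have h3 := coord_mem (Dieu.BC.lift ((WittVector.frobenius : WittVector p k →+* WittVector p k) ^ (n + 1)) ((Dieu.semilinearOfRingHom ((WittVector.frobenius : WittVector p k →+* WittVector p k) ^ (n + 1))).comp (c i))) h
        simpa using h3
      have hb : ∀ m, ∀ z : (WittVector p k), ((WittVector.frobenius : WittVector p k →+* WittVector p k) ^ m) z ∈ Ideal.span {(p : (WittVector p k))} → z ∈ Ideal.span {(p : (WittVector p k))} := by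
        intro m
        induction m with
        | zero => exact fun z hz => hz
        | succ m ih =>
          intro z hz
          refine ih z ?_
          rw [pow_succ'] at hz
          obtain ⟨t, ht⟩ := Ideal.mem_span_singleton'.1 hz
          refine Ideal.mem_span_singleton'.2 ⟨((WittVector.frobeniusEquiv p k).symm : WittVector p k →+* WittVector p k) t, ?_⟩
          rw [← map_natCast (((WittVector.frobeniusEquiv p k).symm : WittVector p k →+* WittVector p k) : (WittVector p k) →+* (WittVector p k)) p, ← map_mul, ht]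
          exact frobeniusEquiv_symm_frobenius _
      exact hb _ _ h2
    intro e
    refine ⟨e * (n + 1), fun m => ?_⟩
    induction e generalizing m with
    | zero => simp
    | succ e ih =>
      rw [Nat.succ_mul, Function.iterate_add_apply]
      refine Submodule.smul_induction_on (h1 m) (fun t ht v _ => ?_) (fun a b ha hb => ?_)
      · obtain ⟨s, rfl⟩ := Ideal.mem_span_singleton'.1 ht
        have hit : ∀ j, ∀ (q : (WittVector p k)) (v : M), ∃ q', (⇑Dm.V)^[j] ((q * (p : (WittVector p k))) • v) = (q' * (p : (WittVector p k))) • (⇑Dm.V)^[j] v := by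
          intro j
          induction j with
          | zero => exact fun q v => ⟨q, rfl⟩
          | succ j ihj =>
            intro q v
            obtain ⟨q', hq'⟩ := ihj q v
            refine ⟨((WittVector.frobeniusEquiv p k).symm : WittVector p k →+* WittVector p k) q', ?_⟩
            rw [Function.iterate_succ_apply', Function.iterate_succ_apply', hq', map_smulₛₗ, map_mul, map_natCast]
        obtain ⟨q', hq'⟩ := hit (e * (n + 1)) s v
        rw [hq', pow_succ', Submodule.mul_smul]
        exact Submodule.smul_mem_smul (Ideal.mem_span_singleton'.2 ⟨q', rfl⟩) (ih v)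
      · rw [iterate_map_add Dm.V]
        exact Submodule.add_mem _ ha hb
  · intro h
    obtain ⟨n, hn⟩ := h 1
    refine ⟨vSharpOf Dm, hVs, n, fun x => ?_⟩
    rw [hJ, vSharpPow_vSharpOf, Function.iterate_succ_apply]
    have h1 := hn (Dm.V x)
    rw [pow_one] at h1
    refine Submodule.smul_induction_on h1 (fun t ht v _ => ?_) (fun a b ha hb => ?_)
    · rw [← Dieu.BC.tmul_apply_eq]
      obtain ⟨s, rfl⟩ := Ideal.mem_span_singleton'.1 ht
      rw [map_mul, map_natCast, Dieu.BC.tmul_eq_smul_tmul_one]
      exact Submodule.smul_mem_smul (Ideal.mul_mem_left _ _ (Ideal.mem_span_singleton_self _)) Submodule.mem_top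
    · rw [Dieu.BC.tmul_add]; exact Submodule.add_mem _ ha hb

end Groth.Agent.DispLib
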