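import Groth.Agent.DispLib.Basic

/-!
# Rigidity of displays along square-zero steps
-/

set_option autoImplicit false

noncomputable section

universe u v

open WittVector
open W4c1extbt610 (IV Display3n)

namespace Groth.Agent.DispLib

variable {p : ℕ} [hp : Fact p.Prime] {S : Type u} [CommRing S]
variable {P P' : Type v} [AddCommGroup P] [Module (WittVector p S) P] [AddCommGroup P'] [Module (WittVector p S) P']

local notation "W" => WittVector p S
local notation "σ" => (WittVector.frobenius : WittVector p S →+* WittVector p S)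

/-- Factor a linear map intertwining `V⁻¹` with a semilinear `g` through the iterates of `V^#`. -/
theorem exists_factor_vSharpPow (D : Display3n p S P) {Vs : P →ₗ[W] Dieu.BC σ P} (hVs : Dieu.IsVSharp D Vs)
    {A : Type*} [AddCommGroup A] [Module W A] (δ : P →ₗ[W] A) (g : A →ₛₗ[σ] A)
    (h : ∀ y : D.Q, δ (D.Vinv y) = g (δ y)) :
    ∀ n, ∃ Λ : Dieu.BC (σ ^ (n + 1)) P →ₗ[W] A, δ = Λ.comp (Dieu.vSharpPow Vs n) := by
  have hbase : δ = (Dieu.BC.lift σ (g.comp δ)).comp Vs := by
    apply ext_Vinv D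
    intro y
    rw [LinearMap.comp_apply, ← one_smul W (D.Vinv y), hVs.app_smul_Vinv, Dieu.BC.lift_tmul, one_smul, one_smul,
      LinearMap.comp_apply, h]
  have hcast : ∀ {a b : W →+* W} (e : a = b) (z : Dieu.BC a P),
      Dieu.BC.castHom e.symm (Dieu.BC.castHom e z) = z := by
    rintro a b rfl z; rfl
  intro n
  induction n with
  | zero =>
    refine ⟨(Dieu.BC.lift σ (g.comp δ)).comp (Dieu.BC.castHom (pow_one σ)), LinearMap.ext fun x => ?_⟩
    conv_lhs => rw [hbase]
    simp only [LinearMap.comp_apply, Dieu.vSharpPow_zero_apply]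
    rw [hcast (pow_one σ).symm]
  | succ n ih =>
    obtain ⟨Λ, hΛ⟩ := ih
    let e := Dieu.comp_pow_eq_pow_succ σ (n + 1)
    haveI : RingHomCompTriple (σ ^ (n + 1)) σ (RingHom.comp σ (σ ^ (n + 1))) := ⟨rfl⟩
    refine ⟨(Dieu.BC.lift (RingHom.comp σ (σ ^ (n + 1))) ((g.comp Λ).comp (Dieu.BC.ι (σ ^ (n + 1)) P))).comp
      (Dieu.BC.castHom e.symm), LinearMap.ext fun x => ?_⟩
    conv_lhs => rw [hbase]
    simp only [LinearMap.comp_apply, Dieu.vSharpPow_succ_apply]
    rw [hcast e]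
    induction Vs x using Dieu.BC.induction_on with
    | zero => simp
    | add a b ha hb => simp only [map_add, ha, hb]
    | tmul w y =>
      rw [Dieu.BC.lift_tmul, Dieu.BC.map_tmul, Dieu.BC.lift_tmul, LinearMap.comp_apply, map_smul]
      conv_lhs => rw [hΛ, LinearMap.comp_apply]
      congr 1
      induction Dieu.vSharpPow Vs n y using Dieu.BC.induction_on with
      | zero => simp
      | add a b ha hb => simp only [map_add, ha, hb]
      | tmul u z =>
        rw [Dieu.BC.push_tmul, Dieu.BC.lift_tmul, Dieu.BC.tmul_eq_smul_tmul_one _ u, map_smul, map_smulₛₗ]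
        rfl

variable {a b : Ideal S}

/-- One step of rigidity. -/
theorem rigid_step (D : Display3n p S P) (D' : Display3n p S P') (hD : Dieu.IsDisplay D)
    (h2 : a * a ≤ b) (hpa : Ideal.span {(p : S)} * a ≤ b)
    (δ : P →ₗ[W] P') (hQ : ∀ y : D.Q, δ (y : P) ∈ D'.Q)
    (hV : ∀ y : D.Q, δ (D.Vinv y) = D'.Vinv ⟨δ (y : P), hQ y⟩)
    (hδ : ∀ x, δ x ∈ (WI (p := p) a) • (⊤ : Submodule W P')) (x : P) : δ x ∈ (WI (p := p) b) • (⊤ : Submodule W P') := by
  classical
  obtain ⟨Vs, hVs, m, hnil⟩ := hD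
  haveI := D'.finite
  haveI := D'.projective
  obtain ⟨r, c, e, hce⟩ := exists_dualBasis W P'
  obtain ⟨πT, hπQ, hπI⟩ := exists_tProj D'
  set A : Submodule W P' := (WI (p := p) a) • ⊤ with hA
  set N : Submodule W P' := (WI (p := p) b) • ⊤ with hN
  have hmemN : ∀ (f : Fin r → W) (v : Fin r → P'), (∀ i, f i ∈ (WI (p := p) b)) → ∑ i, f i • v i ∈ N := fun f v hf =>
    Submodule.sum_mem _ fun i _ => Submodule.smul_mem_smul (hf i) Submodule.mem_top
  let G : P' → P' := fun z => ∑ i, theta (c i z) • D'.F (e i)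
  have hGA : ∀ z ∈ A, G z ∈ A := fun z hz => Submodule.sum_mem _ fun i _ =>
    Submodule.smul_mem_smul (theta_mem_WI (coord_mem (c i) hz)) Submodule.mem_top
  have hGadd : ∀ z ∈ A, ∀ w ∈ A, N.mkQ (G (z + w)) = N.mkQ (G z) + N.mkQ (G w) := by
    intro z hz w hw
    rw [← map_add, ← sub_eq_zero, ← map_sub]
    refine (Submodule.Quotient.mk_eq_zero _).2 ?_
    simp only [G, ← Finset.sum_add_distrib, ← Finset.sum_sub_distrib, ← add_smul, ← sub_smul, map_add]
    exact hmemN _ _ fun i => theta_add_sub_mem h2 hpa (coord_mem _ hz) (coord_mem _ hw)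
  have hGsmul : ∀ (t : W), ∀ z ∈ A, N.mkQ (G (t • z)) = frobenius t • N.mkQ (G z) := by
    intro t z hz
    rw [← map_smul, ← sub_eq_zero, ← map_sub]
    refine (Submodule.Quotient.mk_eq_zero _).2 ?_
    simp only [G, Finset.smul_sum, smul_smul, ← Finset.sum_sub_distrib, ← sub_smul, map_smul, smul_eq_mul]
    exact hmemN _ _ fun i => theta_mul_sub_mem h2 hpa t (coord_mem _ hz)
  have hNA : ∀ z ∈ N, G z ∈ N := fun z hz => hmemN _ _ fun i => theta_mem_WI (coord_mem (c i) hz)
  -- `G (c • q)` vanishes modulo `N` for `q ∈ Q'`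
  have hGq : ∀ t ∈ WI (p := p) a, ∀ q ∈ D'.Q, N.mkQ (G (t • q)) = 0 := by
    intro t ht q hq
    have h1 : N.mkQ (G (t • q)) = N.mkQ (theta t • D'.F q) := by
      rw [← sub_eq_zero, ← map_sub]
      refine (Submodule.Quotient.mk_eq_zero _).2 ?_
      have h3 : theta t • D'.F q = ∑ i, (frobenius (c i q) * theta t) • D'.F (e i) := by
        conv_lhs => rw [hce q, map_sum, Finset.smul_sum]
        exact Finset.sum_congr rfl fun i _ => by rw [map_smulₛₗ, smul_smul, mul_comm]
      simp only [G, h3, ← Finset.sum_sub_distrib, ← sub_smul, map_smul, smul_eq_mul]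
      refine hmemN _ _ fun i => ?_
      rw [mul_comm t]
      exact theta_mul_sub_mem h2 hpa _ ht
    rw [h1]
    refine (Submodule.Quotient.mk_eq_zero _).2 ?_
    rw [show q = ((⟨q, hq⟩ : D'.Q) : P') from rfl, F_eq_smul_Vinv, smul_smul, mul_comm]
    exact Submodule.smul_mem_smul (natCast_mul_mem_WI h2 hpa (theta_mem_WI ht)) Submodule.mem_top
  have hAcomb : ∀ (v : Fin r → P') (z : P'), z ∈ A → ∑ i, c i z • v i ∈ A := fun v z hz =>
    Submodule.sum_mem _ fun i _ => Submodule.smul_mem_smul (coord_mem (c i) hz) Submodule.mem_top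
  -- `V⁻¹` agrees with `G` on `Q' ∩ A` modulo `N`
  have hkey : ∀ (z : P') (hzQ : z ∈ D'.Q), z ∈ A → N.mkQ (D'.Vinv ⟨z, hzQ⟩) = N.mkQ (G z) := by
    intro z hzQ hzA
    let q : Fin r → D'.Q := fun i => ⟨e i - πT (e i), hπQ (e i)⟩
    have hz1 : z - πT z = ∑ i, c i z • (q i : P') := by
      simp only [q, smul_sub, Finset.sum_sub_distrib, ← map_smul, ← map_sum, ← hce z]
    have hzT : πT z ∈ A := by
      have := hAcomb (fun i => πT (e i)) z hzA
      simpa only [← map_smul, ← map_sum, ← hce z] using this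
    have hz0 : ∀ i, (c i (πT z)).coeff 0 = 0 := fun i => mem_IV.1 (coord_mem (c i) (hπI z hzQ))
    have hzQ1 : z - πT z ∈ D'.Q := hπQ z
    have hzQ2 : πT z ∈ D'.Q := D'.IV_smul_le (hπI z hzQ)
    have e1 : N.mkQ (D'.Vinv ⟨z - πT z, hzQ1⟩) = 0 := by
      have : (⟨z - πT z, hzQ1⟩ : D'.Q) = ∑ i, c i z • q i := Subtype.ext (by simp [hz1])
      rw [this, map_sum, map_sum]
      refine Finset.sum_eq_zero fun i _ => (Submodule.Quotient.mk_eq_zero _).2 ?_
      rw [map_smulₛₗ]
      exact Submodule.smul_mem_smul (frobenius_mem_WI h2 hpa (coord_mem (c i) hzA)) Submodule.mem_top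
    have e2 : N.mkQ (G (z - πT z)) = 0 := by
      rw [hz1]
      have key : ∀ (s : Finset (Fin r)), (∑ i ∈ s, c i z • (q i : P')) ∈ A ∧
          N.mkQ (G (∑ i ∈ s, c i z • (q i : P'))) = 0 := by
        intro s
        induction s using Finset.induction with
        | empty =>
          refine ⟨by simp, (Submodule.Quotient.mk_eq_zero _).2 (hNA _ ?_)⟩
          simp
        | insert i s hi ih =>
          have h1 : c i z • (q i : P') ∈ A := Submodule.smul_mem_smul (coord_mem (c i) hzA) Submodule.mem_top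
          rw [Finset.sum_insert hi]
          exact ⟨A.add_mem h1 ih.1, by rw [hGadd _ h1 _ ih.1, ih.2, hGq _ (coord_mem (c i) hzA) _ (q i).2, add_zero]⟩
      exact (key Finset.univ).2
    have e3 : D'.Vinv ⟨πT z, hzQ2⟩ = G (πT z) := by
      have hmem : ∀ i, c i (πT z) • e i ∈ D'.Q := fun i => smul_mem_Q D' (hz0 i) _
      have : (⟨πT z, hzQ2⟩ : D'.Q) = ∑ i, ⟨c i (πT z) • e i, hmem i⟩ := Subtype.ext (by simp [← hce (πT z)])
      rw [this, map_sum]
      exact Finset.sum_congr rfl fun i _ => by rw [Vinv_smul D' (hz0 i), theta_of_coeff_zero (hz0 i)]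
    have hzA1 : z - πT z ∈ A := A.sub_mem hzA hzT
    have : (⟨z, hzQ⟩ : D'.Q) = ⟨z - πT z, hzQ1⟩ + ⟨πT z, hzQ2⟩ := Subtype.ext (by simp)
    rw [this, map_add, map_add, e1, e3]
    conv_rhs => rw [show z = (z - πT z) + πT z by rw [sub_add_cancel], hGadd _ hzA1 _ hzT, e2]
  -- the quotient `A / (A ∩ N)`
  let K : Submodule W A := N.comap A.subtype
  let G1 : A →ₛₗ[σ] (A ⧸ K) :=
    { toFun := fun z => K.mkQ ⟨G z, hGA z z.2⟩
      map_add' := fun z w => by
        rw [← map_add]
        exact (Submodule.Quotient.eq _).2 ((Submodule.Quotient.eq N).1 (((hGadd z z.2 w w.2).trans (map_add _ _ _).symm)))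
      map_smul' := fun t z => by
        rw [← map_smul]
        exact (Submodule.Quotient.eq _).2 ((Submodule.Quotient.eq N).1 (((hGsmul t z z.2).trans (map_smul _ _ _).symm))) }
  let Gb : (A ⧸ K) →ₛₗ[σ] (A ⧸ K) := K.liftQ G1 fun z hz =>
    LinearMap.mem_ker.2 ((Submodule.Quotient.mk_eq_zero _).2 (hNA z hz))
  let δ' : P →ₗ[W] (A ⧸ K) := K.mkQ.comp (δ.codRestrict A hδ)
  have hcomm : ∀ y : D.Q, δ' (D.Vinv y) = Gb (δ' y) := by
    intro y
    refine (Submodule.Quotient.eq _).2 ((Submodule.Quotient.eq N).1 ?_)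
    show N.mkQ (δ (D.Vinv y)) = N.mkQ (G (δ y))
    rw [hV y]
    exact hkey _ _ (hδ _)
  obtain ⟨Λ, hΛ⟩ := exists_factor_vSharpPow D hVs δ' Gb hcomm m
  have hJ : ∀ j ∈ IV p S ⊔ Ideal.span {(p : W)}, ∀ v : A ⧸ K, j • v = 0 := by
    intro j hj v
    obtain ⟨⟨z, hz⟩, rfl⟩ := K.mkQ_surjective v
    rw [← map_smul]
    refine (Submodule.Quotient.mk_eq_zero _).2 (show j • z ∈ N from ?_)
    refine Submodule.smul_induction_on hz (fun t ht v _ => ?_) (fun u v hu hv => ?_)
    · rw [smul_smul]; exact Submodule.smul_mem_smul (IV_sup_mul_mem_WI h2 hpa ht hj) Submodule.mem_top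
    · rw [smul_add]; exact N.add_mem hu hv
  have h0 : δ' x = 0 := by
    rw [hΛ, LinearMap.comp_apply]
    refine Submodule.smul_induction_on (hnil x) (fun t ht v _ => ?_) (fun u v hu hv => ?_)
    · rw [map_smul, hJ t ht]
    · rw [map_add, hu, hv, add_zero]
  exact (Submodule.Quotient.mk_eq_zero K).1 h0

/-- Rigidity along the filtration `step I p`. -/
theorem rigid (D : Display3n p S P) (D' : Display3n p S P') (hD : Dieu.IsDisplay D) {I : Ideal S}
    (hI : IsNilpotent I) (hpS : IsNilpotent (p : S))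
    (δ : P →ₗ[W] P') (hQ : ∀ y : D.Q, δ (y : P) ∈ D'.Q)
    (hV : ∀ y : D.Q, δ (D.Vinv y) = D'.Vinv ⟨δ (y : P), hQ y⟩)
    (hδ : ∀ x, δ x ∈ (WI (p := p) I) • (⊤ : Submodule W P')) : δ = 0 := by
  have key : ∀ j, ∀ x, δ x ∈ (WI (p := p) (step I p j)) • (⊤ : Submodule W P') := by
    intro j
    induction j with
    | zero => exact hδ
    | succ j ih => exact fun x => rigid_step D D' hD le_sup_left le_sup_right δ hQ hV ih x
  obtain ⟨n, hn⟩ := exists_step_eq_bot hI hpS
  refine LinearMap.ext fun x => ?_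
  have := key n x
  rw [hn, WI_bot, Submodule.bot_smul] at this
  simpa using this

end Groth.Agent.DispLib
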