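import Mathlib
import Groth.Agent.WittFrob.Nilpotent
import Groth.Prelude.Def_W4c1extbt610Disp

/-!
# Witt vectors of ideals: the square-zero calculus used for displays
-/

set_option autoImplicit false

noncomputable section

universe u

open WittVector

namespace Groth.Agent.DispLib

variable {p : ℕ} [hp : Fact p.Prime] {S : Type u} [CommRing S]

/-- Witt vectors with all components in `I`. -/
def WI (I : Ideal S) : Ideal (WittVector p S) :=
  RingHom.ker (WittVector.map (Ideal.Quotient.mk I) : WittVector p S →+* WittVector p (S ⧸ I))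

theorem mem_WI {I : Ideal S} {x : WittVector p S} : x ∈ WI I ↔ ∀ n, x.coeff n ∈ I := by
  simp only [WI, RingHom.mem_ker, WittVector.ext_iff, map_coeff, zero_coeff, Ideal.Quotient.eq_zero_iff_mem]

theorem WI_mono {I J : Ideal S} (h : I ≤ J) : WI (p := p) I ≤ WI J := fun _ hx =>
  mem_WI.2 fun n => h (mem_WI.1 hx n)

theorem WI_bot : WI (p := p) (⊥ : Ideal S) = ⊥ := by
  ext x
  rw [mem_WI, Ideal.mem_bot, WittVector.ext_iff]
  simp [zero_coeff]

theorem ker_map_eq {R : Type u} [CommRing R] (f : S →+* R) :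
    RingHom.ker (WittVector.map f : WittVector p S →+* WittVector p R) = WI (RingHom.ker f) := by
  ext x
  simp only [mem_WI, RingHom.mem_ker, WittVector.ext_iff, map_coeff, zero_coeff]

theorem map_surjective {R : Type u} [CommRing R] {f : S →+* R} (hf : Function.Surjective f) :
    Function.Surjective (WittVector.map f : WittVector p S →+* WittVector p R) := fun y =>
  ⟨WittVector.mk p fun n => (hf (y.coeff n)).choose, WittVector.ext fun n => by
    rw [map_coeff, coeff_mk]; exact (hf (y.coeff n)).choose_spec⟩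

/-- The left inverse of Verschiebung. -/
def vInv (x : WittVector p S) : WittVector p S := x.shift 1

theorem verschiebung_vInv {x : WittVector p S} (h : x.coeff 0 = 0) : verschiebung (vInv x) = x := by
  ext n
  cases n with
  | zero => rw [verschiebung_coeff_zero, h]
  | succ n => rw [verschiebung_coeff_succ, vInv, shift_coeff, add_comm]

theorem mem_IV {x : WittVector p S} : x ∈ W4c1extbt610.IV p S ↔ x.coeff 0 = 0 := by
  constructor
  · intro hx
    have : W4c1extbt610.IV p S ≤ RingHom.ker (constantCoeff : WittVector p S →+* S) := by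
      rw [W4c1extbt610.IV, Ideal.span_le]
      rintro _ ⟨w, rfl⟩
      exact verschiebung_coeff_zero w
    exact this hx
  · intro h
    rw [← verschiebung_vInv h]
    exact W4c1extbt610.verschiebung_mem_IV p S _

theorem vInv_verschiebung (x : WittVector p S) : vInv (verschiebung x) = x := by
  ext n
  rw [vInv, shift_coeff, add_comm, verschiebung_coeff_add_one]

theorem vInv_add {x y : WittVector p S} (hx : x.coeff 0 = 0) (hy : y.coeff 0 = 0) :
    vInv (x + y) = vInv x + vInv y := by
  conv_lhs => rw [← verschiebung_vInv hx, ← verschiebung_vInv hy, ← map_add, vInv_verschiebung]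

theorem verschiebung_frobenius_mul (r u : WittVector p S) :
    verschiebung (frobenius r * u) = r * verschiebung u := by
  rw [mul_comm (frobenius r), verschiebung_mul_frobenius, mul_comm]

theorem vInv_mul (r : WittVector p S) {x : WittVector p S} (hx : x.coeff 0 = 0) :
    vInv (r * x) = frobenius r * vInv x := by
  conv_lhs => rw [← verschiebung_vInv hx, ← verschiebung_frobenius_mul, vInv_verschiebung]

theorem vInv_mem_WI {I : Ideal S} {x : WittVector p S} (hx : x ∈ WI I) : vInv x ∈ WI I :=
  mem_WI.2 fun n => by rw [vInv, shift_coeff]; exact mem_WI.1 hx _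

theorem verschiebung_mem_WI {I : Ideal S} {x : WittVector p S} :
    verschiebung x ∈ WI I ↔ x ∈ WI I := by
  simp only [mem_WI]
  refine ⟨fun h n => by simpa using h (n + 1), fun h n => ?_⟩
  cases n with
  | zero => simp
  | succ n => rw [verschiebung_coeff_succ]; exact h n

theorem teichmuller_mem_WI {I : Ideal S} {a : S} (ha : a ∈ I) : teichmuller p a ∈ WI I :=
  mem_WI.2 fun n => by
    rcases Nat.eq_zero_or_pos n with rfl | h
    · rwa [teichmuller_coeff_zero]
    · rw [teichmuller_coeff_pos p a n h]; exact I.zero_mem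

abbrev UZ := TrivSqZeroExt ℤ (ℤ × ℤ)

abbrev UQ := TrivSqZeroExt ℚ (ℚ × ℚ)

open TrivSqZeroExt in
/-- the inclusion of integral dual numbers into rational ones -/
def dualIncl : UZ →+* UQ where
  toFun z := inl (z.fst : ℚ) + inr ((z.snd.1 : ℚ), (z.snd.2 : ℚ))
  map_one' := by
    refine TrivSqZeroExt.ext (by simp) (Prod.ext ?_ ?_) <;> simp [fst_add, snd_add]
  map_zero' := by
    refine TrivSqZeroExt.ext (by simp) (Prod.ext ?_ ?_) <;> simp [fst_add, snd_add]
  map_add' z w := by
    refine TrivSqZeroExt.ext (by simp) (Prod.ext ?_ ?_) <;> simp [fst_add, snd_add]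
  map_mul' z w := by
    refine TrivSqZeroExt.ext (by simp) (Prod.ext ?_ ?_) <;> simp [fst_add, snd_add, fst_mul, snd_mul, mul_comm]

open TrivSqZeroExt in
theorem dualIncl_fst (z : UZ) : (dualIncl z).fst = (z.fst : ℚ) := by simp [dualIncl]

open TrivSqZeroExt in
theorem dualIncl_injective : Function.Injective dualIncl := by
  intro z w h
  have h1 : (z.fst : ℚ) = (w.fst : ℚ) := by
    have := congrArg fst h; rwa [dualIncl_fst, dualIncl_fst] at this
  have h2 := congrArg snd h
  simp [dualIncl, Prod.ext_iff] at h2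
  exact TrivSqZeroExt.ext (by exact_mod_cast h1) (Prod.ext (by exact_mod_cast h2.1) (by exact_mod_cast h2.2))

theorem teichmuller_add_of_mul_eq_zero {x y : S} (hxx : x * x = 0) (hxy : x * y = 0) (hyy : y * y = 0) :
    teichmuller p x + teichmuller p y = teichmuller p (x + y) := by
  let a : UZ := TrivSqZeroExt.inr (1, 0)
  let b : UZ := TrivSqZeroExt.inr (0, 1)
  have ha0 : a.fst = 0 := TrivSqZeroExt.fst_inr ℤ _
  have hb0 : b.fst = 0 := TrivSqZeroExt.fst_inr ℤ _
  have hU : teichmuller p a + teichmuller p b = teichmuller p (a + b) := by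
    apply map_injective dualIncl dualIncl_injective
    rw [map_add, map_teichmuller, map_teichmuller, map_teichmuller]
    haveI : Invertible (p : ℚ) := invertibleOfNonzero (Nat.cast_ne_zero.2 hp.out.ne_zero)
    haveI : Invertible (p : UQ) :=
      (Invertible.map (TrivSqZeroExt.inlHom ℚ (ℚ × ℚ)) (p : ℚ)).copy _ (by simp)
    apply (WittVector.ghostMap.bijective_of_invertible p UQ).1
    rw [map_add]
    funext n
    simp only [Pi.add_apply, ghostMap_apply, ghostComponent_teichmuller]
    rcases Nat.eq_zero_or_pos n with rfl | hn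
    · simp
    · have hsq : ∀ z : UZ, z.fst = 0 → (dualIncl z) ^ p ^ n = 0 := by
        intro z hz
        have h0 : (dualIncl z).fst = 0 := by rw [dualIncl_fst, hz, Int.cast_zero]
        have h2 : (dualIncl z) * dualIncl z = 0 := by
          refine TrivSqZeroExt.ext ?_ ?_
          · rw [TrivSqZeroExt.fst_mul, h0, zero_mul]; rfl
          · rw [TrivSqZeroExt.snd_mul, h0, zero_smul, MulOpposite.op_zero, zero_smul, add_zero]; rfl
        refine pow_eq_zero_of_le (Nat.succ_le_of_lt (Nat.one_lt_pow (by omega) hp.out.one_lt)) ?_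
        rw [pow_two, h2]
      rw [hsq a ha0, hsq b hb0, hsq (a + b) (by rw [TrivSqZeroExt.fst_add, ha0, hb0, add_zero]), add_zero]
  let lin : ℤ × ℤ →ₗ[ℤ] S := (LinearMap.toSpanSingleton ℤ S x).coprod (LinearMap.toSpanSingleton ℤ S y)
  have hlin : ∀ u v, lin u * lin v = 0 := by
    intro u v
    simp [lin, zsmul_eq_mul]
    linear_combination ((u.1 : S) * v.1) * hxx + ((u.1 : S) * v.2 + (u.2 : S) * v.1) * hxy + ((u.2 : S) * v.2) * hyy
  let h : UZ →ₐ[ℤ] S := TrivSqZeroExt.liftEquivOfComm ⟨lin, hlin⟩
  have h2 := congrArg (WittVector.map h.toRingHom) hU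
  rw [map_add, map_teichmuller, map_teichmuller, map_teichmuller] at h2
  have ha : h a = x := by
    show Algebra.ofId ℤ S 0 + lin (1, 0) = x
    simp [lin]
  have hb : h b = y := by
    show Algebra.ofId ℤ S 0 + lin (0, 1) = y
    simp [lin]
  simpa [ha, hb] using h2

/-- the operator `c ↦ V⁻¹(c - [c₀])` -/
def theta (c : WittVector p S) : WittVector p S := vInv (c - teichmuller p (c.coeff 0))

theorem coeff_zero_sub_teichmuller (c : WittVector p S) : (c - teichmuller p (c.coeff 0)).coeff 0 = 0 := by
  show constantCoeff (c - teichmuller p (c.coeff 0)) = 0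
  rw [map_sub, sub_eq_zero]
  exact (teichmuller_coeff_zero p _).symm

theorem verschiebung_theta (c : WittVector p S) : verschiebung (theta c) = c - teichmuller p (c.coeff 0) :=
  verschiebung_vInv (coeff_zero_sub_teichmuller c)

theorem theta_mem_WI {I : Ideal S} {c : WittVector p S} (hc : c ∈ WI I) : theta c ∈ WI I :=
  vInv_mem_WI (Ideal.sub_mem _ hc (teichmuller_mem_WI (mem_WI.1 hc 0)))

theorem theta_of_coeff_zero {c : WittVector p S} (h : c.coeff 0 = 0) : theta c = vInv c := by
  rw [theta, h, teichmuller_zero, sub_zero]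

theorem frobenius_mem_WI_self {I : Ideal S} {c : WittVector p S} (hc : c ∈ WI I) : frobenius c ∈ WI I :=
  mem_WI.2 fun n => by
    have h1 := WittFrob.coeff_frobenius_sub_mem (hp := hp) c (mem_WI.1 hc) n
    have h2 := I.add_mem ((Ideal.mul_le_right : Ideal.span {(p : S)} * I ≤ I) h1) (I.pow_mem_of_mem (mem_WI.1 hc n) p hp.out.pos)
    rwa [sub_add_cancel] at h2

section SquareZero

variable {a b : Ideal S} (h2 : a * a ≤ b) (hpa : Ideal.span {(p : S)} * a ≤ b)

include h2 in
theorem pow_p_mem {c : S} (hc : c ∈ a) : c ^ p ∈ b := by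
  obtain ⟨m, hm⟩ := Nat.exists_eq_add_of_le hp.out.two_le
  rw [hm, pow_add, pow_two]
  exact Ideal.mul_mem_right _ _ (h2 (Ideal.mul_mem_mul hc hc))

include h2 hpa in
theorem frobenius_mem_WI {c : WittVector p S} (hc : c ∈ WI a) : frobenius c ∈ WI b :=
  mem_WI.2 fun n => by
    have h := b.add_mem (hpa (WittFrob.coeff_frobenius_sub_mem (hp := hp) c (mem_WI.1 hc) n)) (pow_p_mem (hp := hp) h2 (mem_WI.1 hc n))
    rwa [sub_add_cancel] at h

include h2 hpa in
theorem natCast_mul_mem_WI {c : WittVector p S} (hc : c ∈ WI a) : (p : WittVector p S) * c ∈ WI b := by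
  rw [mul_comm, ← frobenius_verschiebung]
  exact frobenius_mem_WI h2 hpa (verschiebung_mem_WI.2 hc)

include h2 hpa in
theorem IV_mul_mem_WI {c j : WittVector p S} (hc : c ∈ WI a) (hj : j ∈ W4c1extbt610.IV p S) : j * c ∈ WI b := by
  rw [← verschiebung_vInv (mem_IV.1 hj), ← verschiebung_mul_frobenius, verschiebung_mem_WI]
  exact Ideal.mul_mem_left _ _ (frobenius_mem_WI h2 hpa hc)

include h2 hpa in
theorem IV_sup_mul_mem_WI {c j : WittVector p S} (hc : c ∈ WI a)
    (hj : j ∈ W4c1extbt610.IV p S ⊔ Ideal.span {(p : WittVector p S)}) : j * c ∈ WI b := by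
  obtain ⟨i, hi, k, hk, rfl⟩ := Submodule.mem_sup.1 hj
  obtain ⟨t, rfl⟩ := Ideal.mem_span_singleton'.1 hk
  rw [add_mul, mul_assoc]
  exact Ideal.add_mem _ (IV_mul_mem_WI h2 hpa hc hi) (Ideal.mul_mem_left _ _ (natCast_mul_mem_WI h2 hpa hc))

include h2 in
theorem teichmuller_add_sub_mem {x y : S} (hx : x ∈ a) (hy : y ∈ a) :
    teichmuller p x + teichmuller p y - teichmuller p (x + y) ∈ WI b := by
  have hz : ∀ u v, u ∈ a → v ∈ a → Ideal.Quotient.mk b u * Ideal.Quotient.mk b v = 0 := fun u v hu hv => by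
    rw [← map_mul, Ideal.Quotient.eq_zero_iff_mem]
    exact h2 (Ideal.mul_mem_mul hu hv)
  rw [WI, RingHom.mem_ker, map_sub, map_add, map_teichmuller, map_teichmuller, map_teichmuller, map_add, sub_eq_zero]
  exact teichmuller_add_of_mul_eq_zero (hz _ _ hx hx) (hz _ _ hx hy) (hz _ _ hy hy)

include h2 hpa in
theorem theta_add_sub_mem {c d : WittVector p S} (hc : c ∈ WI a) (hd : d ∈ WI a) :
    theta (c + d) - (theta c + theta d) ∈ WI b := by
  rw [← verschiebung_mem_WI, map_sub, map_add, verschiebung_theta, verschiebung_theta, verschiebung_theta]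
  have h0 : (c + d).coeff 0 = c.coeff 0 + d.coeff 0 := map_add constantCoeff c d
  rw [h0, show c + d - teichmuller p (c.coeff 0 + d.coeff 0) - (c - teichmuller p (c.coeff 0) + (d - teichmuller p (d.coeff 0))) =
    teichmuller p (c.coeff 0) + teichmuller p (d.coeff 0) - teichmuller p (c.coeff 0 + d.coeff 0) by ring]
  exact teichmuller_add_sub_mem h2 (mem_WI.1 hc 0) (mem_WI.1 hd 0)

include h2 hpa in
theorem theta_mul_sub_mem (r : WittVector p S) {c : WittVector p S} (hc : c ∈ WI a) :
    theta (r * c) - frobenius r * theta c ∈ WI b := by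
  rw [← verschiebung_mem_WI, map_sub, verschiebung_frobenius_mul, verschiebung_theta, verschiebung_theta]
  have h0 : (r * c).coeff 0 = r.coeff 0 * c.coeff 0 := map_mul constantCoeff r c
  rw [h0, map_mul, show r * c - teichmuller p (r.coeff 0) * teichmuller p (c.coeff 0) - r * (c - teichmuller p (c.coeff 0)) =
    (r - teichmuller p (r.coeff 0)) * teichmuller p (c.coeff 0) by ring]
  exact IV_mul_mem_WI h2 hpa (teichmuller_mem_WI (mem_WI.1 hc 0)) (mem_IV.2 (coeff_zero_sub_teichmuller r))

end SquareZero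

/-- the filtration of an ideal with square-zero `p`-killed steps -/
def step (I : Ideal S) (p : ℕ) : ℕ → Ideal S
  | 0 => I
  | j + 1 => step I p j * step I p j ⊔ Ideal.span {(p : S)} * step I p j

omit hp in
theorem step_le_pow (I : Ideal S) : ∀ j, step I p j ≤ (I ⊔ Ideal.span {(p : S)}) ^ (j + 1)
  | 0 => by rw [pow_one]; exact le_sup_left
  | j + 1 => by
    have h := step_le_pow I j
    rw [pow_succ']
    refine sup_le (Ideal.mul_mono (h.trans (Ideal.pow_le_self (Nat.succ_ne_zero j))) h) (Ideal.mul_mono le_sup_right h)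

omit hp in
theorem exists_step_eq_bot {I : Ideal S} (hI : IsNilpotent I) (hp' : IsNilpotent (p : S)) :
    ∃ n, step I p n = ⊥ := by
  obtain ⟨m, hm⟩ := hI
  obtain ⟨l, hl⟩ := hp'
  refine ⟨m + l, eq_bot_iff.2 ((step_le_pow I _).trans ((Ideal.pow_le_pow_right (Nat.le_succ _)).trans ?_))⟩
  refine (Ideal.sup_pow_add_le_pow_sup_pow).trans ?_
  rw [hm, Ideal.span_singleton_pow, hl]
  simp

theorem pow_mul_mem_WI_step {I : Ideal S} {c : WittVector p S} (hc : c ∈ WI I) :
    ∀ j, (p : WittVector p S) ^ j * c ∈ WI (step I p j)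
  | 0 => by rw [pow_zero, one_mul]; exact hc
  | j + 1 => by
    rw [pow_succ', mul_assoc]
    exact natCast_mul_mem_WI le_sup_left le_sup_right (pow_mul_mem_WI_step hc j)

theorem mem_WI_nilradical_of_natCast_mul (hp' : IsNilpotent (p : S)) {c : WittVector p S}
    (h : (p : WittVector p S) * c = 0) : c ∈ WI (nilradical S) := by
  rcases subsingleton_or_nontrivial (S ⧸ nilradical S) with hsub | hnt
  · exact mem_WI.2 fun n => Ideal.Quotient.eq_zero_iff_mem.1 (Subsingleton.elim _ _)
  haveI : IsReduced (S ⧸ nilradical S) :=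
    (Ideal.isRadical_iff_quotient_reduced _).1 (Ideal.radical_isRadical _)
  haveI : CharP (S ⧸ nilradical S) p := by
    rw [CharP.charP_iff_prime_eq_zero hp.out, ← map_natCast (Ideal.Quotient.mk (nilradical S)),
      Ideal.Quotient.eq_zero_iff_mem]
    exact hp'
  refine mem_WI.2 fun n => Ideal.Quotient.eq_zero_iff_mem.1 ?_
  set c' := WittVector.map (Ideal.Quotient.mk (nilradical S)) c
  have h' : c' * (p : WittVector p (S ⧸ nilradical S)) = 0 := by
    rw [mul_comm, ← map_natCast (WittVector.map (Ideal.Quotient.mk (nilradical S))), ← map_mul, h, map_zero]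
  have := congrArg (fun w => w.coeff (n + 1)) h'
  simp only [mul_charP_coeff_succ, zero_coeff] at this
  have h3 := eq_zero_of_pow_eq_zero this
  rwa [map_coeff] at h3

end Groth.Agent.DispLib
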